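import Cfsg.Agent.H294.Gen
import Cfsg.Agent.H293.Cfg
import Cfsg.Agent.H293.Mul
import Cfsg.Agent.H315.ZStarTop
import Cfsg.Agent.StdL2.Assemble_m3
import Cfsg.Agent.FastGrp
import Cfsg.Agent.Prune
set_option linter.all false
prune_inst 0x7f00000000000000000000000000000000000000000000000000000000000000000000000000000000000000000000000000000000000000000000000000000000000000000000000000000000000000003fffffffffffffffffffffffffffbeffbdffffffff
open scoped Cfsg.Agent.FastGrp

-- part: H293/Asm
section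
/-!
# Standard subgroups whose centralizer has cyclic Sylow 2-subgroups: the two cases

* `Out L` : `E(G) = ⟨L^G⟩` is a perfect central extension, with a kernel of odd order, of `S × S`, `S ≅ L / Z(L)`, or of the simple group `N`
  of a reduced configuration `Conf N A t` with `A / Z(A) ≅ L / Z(L)` (`A ≅ L` if `Z(L) = 1`);
* `out` : this holds as soon as every such configuration has a mover.
-/

set_option autoImplicit false
set_option linter.unusedSectionVars false

namespace Cfsg.Agent.H293.Asm

open Cfsg Subgroup Cfsg.Agent.H293.StdOdd Cfsg.Agent.H293.G2Odd Cfsg.Agent.H293.G2Std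
open Cfsg.Agent.StdL2.Setup Cfsg.Agent.StdL2.Assemble Cfsg.Agent.H294.Gen

universe u v w

variable {G : Type u} [Group G] [Finite G]

/-- a reduced configuration related to `L` -/
structure Rel {G : Type u} [Group G] (L : Subgroup G) {H : Type u} [Group H] [Finite H] (N A : Subgroup H) (t : H) : Prop where
  conf : Conf N A t
  quot : Nonempty ((↥A ⧸ center ↥A) ≃* (↥L ⧸ center ↥L))
  iso : center ↥L = ⊥ → Nonempty (↥A ≃* ↥L)

/-- `⟨L^G⟩` is a perfect central extension of `E` with a kernel of odd order. -/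
def Ext (L : Subgroup G) (E : Type u) [Group E] : Prop :=
  ∃ f : ↥(normalClosure (L : Set G)) →* E, Function.Surjective f ∧ f.ker ≤ center _ ∧ Odd (Nat.card f.ker)

theorem Ext.congr {L : Subgroup G} {E E' : Type u} [Group E] [Group E'] (e : E ≃* E') (h : Ext L E) : Ext L E' := by
  obtain ⟨f, h1, h2, h3⟩ := h
  have hk : (e.toMonoidHom.comp f).ker = f.ker := by
    ext x
    rw [MonoidHom.mem_ker, MonoidHom.mem_ker]
    constructor
    · intro h4
      exact e.injective (by rw [map_one]; exact h4)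
    · intro h4
      show e (f x) = 1
      rw [h4, map_one]
  exact ⟨e.toMonoidHom.comp f, e.surjective.comp h1, by rw [hk]; exact h2, by rw [hk]; exact h3⟩

/-- **the conclusion** -/
structure Out (L : Subgroup G) : Prop where
  layer : layer G = normalClosure (L : Set G)
  perfect : _root_.commutator ↥(normalClosure (L : Set G)) = ⊤
  cases : (IsSimpleGroup (↥L ⧸ center ↥L) ∧ ¬ IsMulCommutative (↥L ⧸ center ↥L) ∧
      Ext L ((↥L ⧸ center ↥L) × (↥L ⧸ center ↥L))) ∨
    ∃ (H : Type u) (_ : Group H) (_ : Finite H) (N A : Subgroup H) (t : H), Rel L N A t ∧ Ext L ↥N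

/-- the isomorphism type of the image of `L` -/
theorem iso_map {L : Subgroup G} (h : Hyp L) (hZ : center ↥L = ⊥) :
    Nonempty (↥(L.map (QuotientGroup.mk' (oddCore G))) ≃* ↥L) := by
  have hinj : Function.Injective ((QuotientGroup.mk' (oddCore G)).subgroupMap L) := by
    rw [injective_iff_map_eq_one]
    intro x hx
    have h1 : QuotientGroup.mk' (oddCore G) (x : G) = 1 := congrArg Subtype.val hx
    rw [← MonoidHom.mem_ker, QuotientGroup.ker_mk'] at h1
    have h2 := h.inf_le_centralizer inferInstance (odd_oddCore G) ⟨h1, x.2⟩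
    have h3 : x ∈ center ↥L := by
      rw [mem_center_iff]
      intro y
      exact Subtype.ext (mem_centralizer_iff.1 h2 y y.2)
    rwa [hZ, mem_bot] at h3
  exact ⟨(MulEquiv.ofBijective _ ⟨hinj, MonoidHom.subgroupMap_surjective _ _⟩).symm⟩

theorem out {L : Subgroup G} (h : Hyp L) (hnorm : ¬ (L ⊔ oddCore G).Normal)
    (core : ∀ (H : Type u) [Group H] [Finite H] (N A : Subgroup H) (t : H), Rel L N A t →
      ∃ g z : H, z ∈ A ∧ z ≠ 1 ∧ g * t * g⁻¹ = t * z) : Out L := by
  obtain ⟨t, htL, ht, ht', htC, hcase⟩ := main_cases h hnorm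
  obtain ⟨q⟩ := quot_map h
  rcases hcase with ⟨X, hX⟩ | S
  · obtain ⟨i⟩ := hX.iso
    have hsA := simple_congr i hX.simple
    have hncA := nc_congr i hX.nc
    have eA' : ↥(L.map (QuotientGroup.mk' (oddCore G))) ≃* (↥L ⧸ center ↥L) :=
      (quotBot (center_eq_bot hsA hncA)).symm.trans q.symm
    obtain ⟨w⟩ := wr_layer hX
    have w' : ↥(layer (G ⧸ oddCore G)) ≃* (↥L ⧸ center ↥L) × (↥L ⧸ center ↥L) := w.trans (eA'.prodCongr eA')
    obtain ⟨g, z, hz, hz1, hg⟩ := hX.mover
    obtain ⟨hc, f, h1, h2, h3, h4, -⟩ := ext_of_mover h ht htL ⟨g, z, hz, hz1, hg⟩ hX.closure_eq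
    exact ⟨layer_eq h hc hX.closure_eq, h4, Or.inl ⟨simple_congr eA' hsA, nc_congr eA' hncA, Ext.congr w' ⟨f, h1, h2, h3⟩⟩⟩
  · have C := conf_of_simple S ht' htC (h.cyc_map (odd_oddCore G))
    have hLH : layer (G ⧸ oddCore G) ≤ layer (G ⧸ oddCore G) ⊔ zpowers (QuotientGroup.mk' (oddCore G) t) := le_sup_left
    have hAH : L.map (QuotientGroup.mk' (oddCore G)) ≤
        layer (G ⧸ oddCore G) ⊔ zpowers (QuotientGroup.mk' (oddCore G) t) := S.le_layer.trans hLH
    have eL := subgroupOfEquivOfLe hLH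
    have eAH := subgroupOfEquivOfLe hAH
    obtain ⟨f⟩ := Cfsg.Agent.StdEven.Red.nonempty_quot eAH
    have R : Rel L ((layer (G ⧸ oddCore G)).subgroupOf
        (layer (G ⧸ oddCore G) ⊔ zpowers (QuotientGroup.mk' (oddCore G) t)))
        ((L.map (QuotientGroup.mk' (oddCore G))).subgroupOf
        (layer (G ⧸ oddCore G) ⊔ zpowers (QuotientGroup.mk' (oddCore G) t))) _ := ⟨C, ⟨f.trans q.symm⟩, fun hZ => by
      obtain ⟨i⟩ := iso_map h hZ
      exact ⟨eAH.trans i⟩⟩
    obtain ⟨g, z, hz, hz1, hg⟩ := core _ _ _ _ R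
    have hm : ∃ g z : G ⧸ oddCore G, z ∈ L.map (QuotientGroup.mk' (oddCore G)) ∧ z ≠ 1 ∧
        g * QuotientGroup.mk' (oddCore G) t * g⁻¹ = QuotientGroup.mk' (oddCore G) t * z :=
      ⟨(g : G ⧸ oddCore G), (z : G ⧸ oddCore G), mem_subgroupOf.1 hz, fun h1 => hz1 (Subtype.ext h1),
        congrArg Subtype.val hg⟩
    obtain ⟨hc, f, h1, h2, h3, h4, -⟩ := ext_of_mover h ht htL hm (simple_closure S)
    exact ⟨layer_eq h hc (simple_closure S), h4, Or.inr ⟨_, _, _, _, _, _, R, Ext.congr eL.symm ⟨f, h1, h2, h3⟩⟩⟩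

/-- no odd extensions: the isomorphism type -/
theorem Ext.equiv {L : Subgroup G} {E : Type u} [Group E] (hp : _root_.commutator ↥(normalClosure (L : Set G)) = ⊤)
    (h : Ext L E) {R : Type v} [Group R] (e : E ≃* R) (hN : NoOddExt.{u} R) :
    Nonempty (↥(normalClosure (L : Set G)) ≃* R) := by
  obtain ⟨f, h1, h2, h3⟩ := h
  exact ⟨(MulEquiv.ofBijective f ⟨(hN.congr e) _ hp f h1 h2 h3, h1⟩).trans e⟩

end Cfsg.Agent.H293.Asm
end

-- part: H293/Bridge
section
/-!
# The reduced configuration and `Cfg`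

`C : Conf L A t` (`L ⊴ G` simple, `G = L⟨t⟩`, `A ≤ L` standard, `t` an involution of `C(A)`).

* `al C` : the automorphism of `L` induced by `t`; `cfg C : Cfg (al C) (A ∩ L)`;
* `odd_cent` : if `al C` is not inner, `C_L(A)` has odd order;
* `mover` : if `C_L(t) ≤ A`, then `g t g⁻¹ = t z` with `1 ≠ z ∈ A` (Z*-theorem).
-/

set_option autoImplicit false
set_option linter.unusedSectionVars false

namespace Cfsg.Agent.H293.Bridge

open Cfsg Subgroup Cfsg.Agent.StdL2.Setup Cfsg.Agent.H293

universe u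

variable {G : Type u} [Group G] [Finite G] {L A : Subgroup G} {t : G}

/-- the automorphism of `L` induced by `t` -/
noncomputable def al (C : Conf L A t) : MulAut ↥L :=
  have : L.Normal := C.normal
  MulAut.conjNormal t

theorem al_apply (C : Conf L A t) (x : ↥L) : ((al C x : ↥L) : G) = t * x * t⁻¹ := by
  have : L.Normal := C.normal
  exact MulAut.conjNormal_apply t x

theorem tt (C : Conf L A t) : t * t = 1 := by
  have h := pow_orderOf_eq_one t
  rwa [C.ht, pow_two] at h

theorem mem_fix (C : Conf L A t) {x : ↥L} : x ∈ fixedSubgroup (al C) ↔ (x : G) * t = t * x := by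
  show al C x = x ↔ _
  rw [← Subtype.coe_inj, al_apply, mul_inv_eq_iff_eq_mul]
  exact eq_comm

theorem cent_le (C : Conf L A t) : centralizer ({t} : Set G) ≤ normalizer (A : Set G) :=
  SignalizersComponents.StandardTrichotomy.centralizer_involution_le C.std C.ht C.htA

theorem mem_cent_sub (C : Conf L A t) {x : ↥L} :
    x ∈ centralizer ((A.subgroupOf L : Subgroup ↥L) : Set ↥L) ↔ (x : G) ∈ centralizer (A : Set G) :=
  mem_centralizer_subgroupOf C.le

theorem cfg (C : Conf L A t) : Cfg (al C) (A.subgroupOf L) where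
  sq := by
    ext x
    show ((al C (al C x) : ↥L) : G) = x
    rw [al_apply, al_apply]
    calc t * (t * x * t⁻¹) * t⁻¹ = (t * t) * x * (t * t)⁻¹ := by group
      _ = x := by rw [tt C]; group
  ne := by
    intro h
    have h1 : t ∈ centralizer (L : Set G) := by
      rw [mem_centralizer_iff]
      intro x hx
      have h2 := al_apply C ⟨x, hx⟩
      rw [h] at h2
      have h3 : x = t * x * t⁻¹ := h2
      rw [eq_mul_inv_iff_mul_eq] at h3
      exact h3
    rw [C.cent, mem_bot] at h1
    have h2 := C.ht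
    rw [h1, orderOf_one] at h2
    exact absurd h2 (by norm_num)
  le := by
    intro x hx
    rw [mem_fix]
    exact mem_centralizer_iff.1 C.htA _ (mem_subgroupOf.1 hx)
  nrm := by
    intro g hg a ha
    rw [mem_subgroupOf] at ha ⊢
    have h1 : (g : G) ∈ normalizer (A : Set G) := cent_le C (mem_centralizer_singleton_iff.2 ((mem_fix C).1 hg))
    exact (mem_normalizer_iff.1 h1 _).1 ha
  qs := SignalizersComponents.Components.isQuasisimple_of_mulEquiv (subgroupOfEquivOfLe C.le).symm C.std.1
  cyc := by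
    intro R
    have : Fact (Nat.Prime 2) := ⟨Nat.prime_two⟩
    let f : ↥(centralizer ((A.subgroupOf L : Subgroup ↥L) : Set ↥L) ⊓ fixedSubgroup (al C)) →* ↥(centralizer (A : Set G)) :=
      { toFun := fun x => ⟨((x : ↥L) : G), (mem_cent_sub C).1 (mem_inf.1 x.2).1⟩
        map_one' := rfl
        map_mul' := fun _ _ => rfl }
    have hf : Function.Injective f := by
      intro a b hab
      exact Subtype.ext (Subtype.ext (congrArg (fun z : ↥(centralizer (A : Set G)) => (z : G)) hab))
    have h1 : IsPGroup 2 ((R : Subgroup _).map f) := R.isPGroup'.map _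
    obtain ⟨Q, hQ⟩ := h1.exists_le_sylow
    have h2 := C.cyc Q
    have h3 : IsCyclic ↥((R : Subgroup _).map f) :=
      isCyclic_of_injective (Subgroup.inclusion hQ) (Subgroup.inclusion_injective hQ)
    have e := (R : Subgroup _).equivMapOfInjective f hf
    exact isCyclic_of_injective e.toMonoidHom e.injective

/-- **The centralizer of `A` in `L` has odd order** if the automorphism is not inner. -/
theorem odd_cent (C : Conf L A t) (h : ¬ ∃ y, al C = MulAut.conj y) :
    Odd (Nat.card ↥(centralizer ((A.subgroupOf L : Subgroup ↥L) : Set ↥L))) := by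
  have : Fact (Nat.Prime 2) := ⟨Nat.prime_two⟩
  by_contra ho
  rw [Nat.not_odd_iff_even] at ho
  obtain ⟨s, hs⟩ := exists_prime_orderOf_dvd_card' (G := ↥(centralizer ((A.subgroupOf L : Subgroup ↥L) : Set ↥L))) 2
    ho.two_dvd
  have hsC : ((s : ↥L) : G) ∈ centralizer (A : Set G) := (mem_cent_sub C).1 s.2
  have hs2 : ((s : ↥L) : G) * ((s : ↥L) : G) = 1 := by
    have h1 : s * s = 1 := by rw [← pow_two, ← hs]; exact pow_orderOf_eq_one s
    exact congrArg (fun z : ↥(centralizer ((A.subgroupOf L : Subgroup ↥L) : Set ↥L)) => ((z : ↥L) : G)) h1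
  have hs1 : ((s : ↥L) : G) ≠ 1 := by
    intro h1
    have h2 : s = 1 := Subtype.ext (Subtype.ext h1)
    rw [h2, orderOf_one] at hs
    exact absurd hs (by norm_num)
  have ht1 : t ≠ 1 := by
    intro h1
    have h2 := C.ht
    rw [h1, orderOf_one] at h2
    exact absurd h2 (by norm_num)
  obtain ⟨r, -, hr⟩ := StdOdd.exists_conj_of_cyc C.cyc hsC C.htA hs1 ht1 hs2 (tt C)
  have htL : t ∈ L := by
    have h1 := C.normal.conj_mem _ (s : ↥L).2 r⁻¹
    rw [← hr] at h1
    have e : r⁻¹ * (r * t * r⁻¹) * r⁻¹⁻¹ = t := by group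
    rwa [e] at h1
  apply h
  refine ⟨⟨t, htL⟩, ?_⟩
  ext x
  rw [al_apply]
  rfl

/-- `C_L(t)` is the product of `A` and ... : the order is divisible -/
theorem card_even (C : Conf L A t) : 2 ∣ Nat.card ↥L := by
  by_contra h
  have h1 : Odd (Nat.card ↥L) := by rwa [← Nat.not_even_iff_odd, even_iff_two_dvd]
  have := C.simple
  exact SignalizersComponents.Components.quasisimple_not_isSolvable
    (SignalizersComponents.IntrinsicDiag.quasisimple_of_simple C.simple C.not_comm) (S0205.result h1)

/-- **the mover** -/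
theorem mover (C : Conf L A t) (hfix : ∀ x ∈ L, x * t = t * x → x ∈ A) :
    ∃ g z : G, z ∈ A ∧ z ≠ 1 ∧ g * t * g⁻¹ = t * z := by
  have htt := tt C
  have hti : t⁻¹ = t := inv_eq_of_mul_eq_one_right htt
  have hLn : L.Normal := C.normal
  have hO : oddCore G = ⊥ := by
    have hn : (oddCore G).Normal := Lib.Cores.pPrimeCore_normal 2
    have hodd : Odd (Nat.card (oddCore G)) := Nat.coprime_two_right.1 (Lib.Cores.pPrimeCore_coprime 2)
    have h1 : ((oddCore G).subgroupOf L).Normal := inferInstance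
    have := C.simple
    rcases h1.eq_bot_or_eq_top with h | h
    · rw [subgroupOf_eq_bot, disjoint_iff] at h
      have h2 : oddCore G ≤ centralizer (L : Set G) := by
        rw [← commutator_eq_bot_iff_le_centralizer, eq_bot_iff, ← h]
        exact le_inf (commutator_le_left _ _) (commutator_le_right _ _)
      rw [C.cent] at h2
      exact le_bot_iff.1 h2
    · exfalso
      rw [subgroupOf_eq_top] at h
      have h2 := card_dvd_of_le h
      have h3 := (card_even C).trans h2
      exact (Nat.not_even_iff_odd.2 hodd) (even_iff_two_dvd.2 h3)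
  obtain ⟨g, hg, hne⟩ := H315.ZStarTop.exists_comm_conj C.ht (by
    rw [hO, sup_bot_eq]
    intro h1
    have h2 : t ∈ centralizer (L : Set G) := by
      rw [mem_centralizer_iff]
      intro x _
      have h3 : x ∈ centralizer ({t} : Set G) := by rw [h1]; exact mem_top x
      exact mem_centralizer_singleton_iff.1 h3
    rw [C.cent, mem_bot] at h2
    have h3 := C.ht
    rw [h2, orderOf_one] at h3
    exact absurd h3 (by norm_num))
  have hmem : ∀ x : G, (QuotientGroup.mk' L) x ∈ zpowers ((QuotientGroup.mk' L) t) := by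
    intro x
    have h1 : x ∈ L ⊔ zpowers t := by rw [C.gen]; exact mem_top x
    obtain ⟨l, hl, y, hy, rfl⟩ := mem_sup_of_normal_left.1 h1
    obtain ⟨k, rfl⟩ := mem_zpowers_iff.1 hy
    rw [map_mul, (QuotientGroup.eq_one_iff l).2 hl |> (fun e => (show (QuotientGroup.mk' L) l = 1 from e)), one_mul, map_zpow]
    exact zpow_mem (mem_zpowers _) k
  have hzL : t * (g * t * g⁻¹) ∈ L := by
    rw [← QuotientGroup.ker_mk' L, MonoidHom.mem_ker, map_mul, map_mul, map_mul, map_inv]
    obtain ⟨k, hk⟩ := mem_zpowers_iff.1 (hmem g)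
    rw [← hk]
    have h1 : (QuotientGroup.mk' L) t * (QuotientGroup.mk' L) t = 1 := by rw [← map_mul, htt, map_one]
    set s := (QuotientGroup.mk' L) t
    calc s * (s ^ k * s * (s ^ k)⁻¹) = s * s := by
          rw [← zpow_add_one, ← zpow_neg, ← zpow_add]
          congr 1
          rw [show k + 1 + -k = 1 by ring, zpow_one]
      _ = 1 := h1
  refine ⟨g, t * (g * t * g⁻¹), hfix _ hzL ?_, ?_, ?_⟩
  · calc t * (g * t * g⁻¹) * t = t * ((g * t * g⁻¹) * t) := by group
      _ = t * (t * (g * t * g⁻¹)) := by rw [hg]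
  · intro h1
    apply hne
    rw [mul_eq_one_iff_eq_inv] at h1
    have h2 : g * t * g⁻¹ = t⁻¹ := by
      have h3 := congrArg (fun w : G => w⁻¹) h1
      simpa using h3.symm
    rw [h2, hti]
  · rw [← mul_assoc, htt, one_mul]

end Cfsg.Agent.H293.Bridge
end
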