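import Cfsg.Agent.H293.ExcOdd
import Cfsg.Agent.H166.FieldAut
import Cfsg.Agent.OrdDiv.Table
import Cfsg.Agent.Prune
set_option linter.all false
prune_inst 0x7f00000000000000000000000000000000000000000000000000000000000000000000000000000000000000000000000000000000000000000000000000000000000000000000000000000000000000003fffffffffffffffffffffffffffbeffbdffffffff
open scoped Cfsg.Agent.FastGrp

/-!
# A component `G₂(3)` of the fixed subgroup of an involutory automorphism of an exceptional group of odd characteristic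

* `exc_G` : the group is `G₂(9)`.
-/

set_option autoImplicit false
set_option linter.unusedSectionVars false

namespace Cfsg.Agent.H293

open Cfsg Subgroup Cfsg.Lie

universe u v

namespace Cfg

/-- the order of the automorphism group of a group with trivial centre -/
theorem card_mulAut {S : Type*} [Group S] [Finite S] (hZ : center S = ⊥) :
    Nat.card (MulAut S) = Nat.card (Out S) * Nat.card S := by
  have h1 := Subgroup.card_eq_card_quotient_mul_card_subgroup (Inn S)
  rw [show Nat.card (Out S) = Nat.card (MulAut S ⧸ Inn S) from rfl, h1]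
  congr 1
  have h2 : Function.Injective (MulAut.conj : S →* MulAut S) := by
    rw [injective_iff_map_eq_one]
    intro g hg
    have h3 : g ∈ center S := by
      rw [mem_center_iff]
      intro x
      have h2 := DFunLike.congr_fun hg x
      rw [MulAut.conj_apply, MulAut.one_apply, mul_inv_eq_iff_eq_mul] at h2
      exact h2.symm
    rwa [hZ, mem_bot] at h3
  exact (Nat.card_congr (MonoidHom.ofInjective h2).toEquiv).symm

/-- involutory automorphisms are inner if `|Out|` is odd -/
theorem inner_of_odd_out {S : Type*} [Group S] [Finite S] (ho : Odd (Nat.card (Out S))) {α : MulAut S} (hα : α * α = 1) :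
    ∃ y, α = MulAut.conj y := by
  have h1 : orderOf (QuotientGroup.mk α : Out S) ∣ 2 := by
    rw [orderOf_dvd_iff_pow_eq_one, pow_two]
    show (QuotientGroup.mk (α * α) : MulAut S ⧸ Inn S) = 1
    rw [hα]; rfl
  have h2 : orderOf (QuotientGroup.mk α : Out S) ∣ Nat.card (Out S) := orderOf_dvd_natCard _
  have h3 : orderOf (QuotientGroup.mk α : Out S) = 1 := by
    have h4 := Nat.dvd_gcd h1 h2
    rwa [Nat.Coprime.gcd_eq_one (Nat.coprime_two_left.2 ho), Nat.dvd_one] at h4
  rw [orderOf_eq_one_iff] at h3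
  have h4 : α ∈ Inn S := (QuotientGroup.eq_one_iff α).1 h3
  obtain ⟨y, hy⟩ := h4
  exact ⟨y, hy.symm⟩

theorem center_bot_of_simple {S : Type*} [Group S] (hs : IsSimpleGroup S) (hnc : ¬ IsMulCommutative S) : center S = ⊥ := by
  rcases hs.eq_bot_or_eq_top_of_normal (center S) inferInstance with h | h
  · exact h
  · exfalso
    apply hnc
    refine ⟨⟨fun a b => ?_⟩⟩
    have : b ∈ center S := by rw [h]; exact mem_top b
    exact mem_center_iff.1 this a

/-- `|G₂(q)|` -/
theorem card_G {F : Type v} [Field F] [Fintype F] :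
    Nat.card ↥(chevG2.group F) = Fintype.card F ^ 6 * (Fintype.card F ^ 2 - 1) * (Fintype.card F ^ 6 - 1) :=
  Cfsg.Agent.S1059.result rfl

theorem card_aut_G3 {F : Type v} [Field F] [Fintype F] (hF : Fintype.card F = 3) {S : Type*} [Group S] [Finite S]
    (e : S ≃* ↥(chevG2.group F)) (hZ : center ↥(chevG2.group F) = ⊥) : Nat.card (MulAut S) ∣ 8491392 := by
  have h3 : CharP F 3 := by
    obtain ⟨p, hp⟩ := CharP.exists F
    have : Fact p.Prime := ⟨CharP.char_is_prime F p⟩
    obtain ⟨f, hf, hK⟩ := card_pow (K := F) (p := p)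
    rw [hF] at hK
    have h1 : p ∣ 3 := by rw [hK]; exact dvd_pow_self p (by omega)
    rwa [(Nat.prime_dvd_prime_iff_eq (Fact.out) Nat.prime_three).1 h1] at hp
  have : Fact (Nat.Prime 3) := ⟨Nat.prime_three⟩
  rw [Nat.card_congr (MulAut.congr e).toEquiv, card_mulAut hZ, card_G, hF,
    Cfsg.Agent.H69.OutGF.card_out_G2 (by rw [Nat.card_eq_fintype_card, hF]),
    H166.FieldAut.card_ringAut 3 1 (by rw [hF]; norm_num)]
  have h4 : Nat.card ↥(Cfsg.Agent.H70.OutCount.realised Cfsg.Agent.H69.OutGF.hG2 F) ∣ 2 := by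
    have h5 := Subgroup.card_subgroup_dvd_card (Cfsg.Agent.H70.OutCount.realised Cfsg.Agent.H69.OutGF.hG2 F)
    have h6 : Nat.card (Equiv.Perm (Fin chevG2.rank)) = 2 := by
      rw [Nat.card_eq_fintype_card, Fintype.card_perm, Fintype.card_fin]
      rfl
    rwa [h6] at h5
  obtain ⟨k, hk⟩ := h4
  refine Dvd.intro k ?_
  have e1 : Nat.card ↥(Cfsg.Agent.H70.OutCount.realised Cfsg.Agent.H69.OutGF.hG2 F) * 1 *
      (3 ^ 6 * (3 ^ 2 - 1) * (3 ^ 6 - 1)) * k = 4245696 *
      (Nat.card ↥(Cfsg.Agent.H70.OutCount.realised Cfsg.Agent.H69.OutGF.hG2 F) * k) := by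
    norm_num; ring
  rw [e1, ← hk]

/-- the odd primes whose square divides the order -/
theorem eq_three {p : ℕ} (hp : p.Prime) (hp2 : p ≠ 2) (h : p ^ 2 ∣ 8491392) : p = 3 := by
  by_contra h3
  have h1 : (8491392 : ℕ) = 2 ^ 7 * (3 ^ 6 * 91) := by norm_num
  rw [h1] at h
  have h2 : p ^ 2 ∣ 91 := by
    refine Nat.Coprime.dvd_of_dvd_mul_left ?_ (Nat.Coprime.dvd_of_dvd_mul_left ?_ h)
    · exact Nat.Coprime.pow _ _ ((Nat.coprime_primes hp Nat.prime_three).2 h3)
    · exact Nat.Coprime.pow _ _ ((Nat.coprime_primes hp Nat.prime_two).2 hp2)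
  have h4 : p ≤ 9 := by
    have := Nat.le_of_dvd (by norm_num) h2
    nlinarith
  have h5 := hp.two_le
  interval_cases p <;> revert h2 <;> decide

theorem le_six {k : ℕ} (h : 3 ^ k ∣ 8491392) : k ≤ 6 := by
  by_contra hk
  have h1 : (3 : ℕ) ^ 7 ∣ 8491392 := (pow_dvd_pow 3 (by omega)).trans h
  revert h1
  decide

/-- the 2-part of the order of the Ree groups -/
theorem ree_sixteen (m : ℕ) : ¬ 16 ∣ (3 ^ (2 * m + 1)) ^ 3 * (3 ^ (2 * m + 1) - 1) * ((3 ^ (2 * m + 1)) ^ 3 + 1) := by
  have h1 : 3 ^ (2 * m + 1) % 16 = 3 ∨ 3 ^ (2 * m + 1) % 16 = 11 := by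
    induction m with
    | zero => left; rfl
    | succ m ih =>
      have e : 3 ^ (2 * (m + 1) + 1) = 3 ^ (2 * m + 1) * 9 := by
        rw [show 2 * (m + 1) + 1 = (2 * m + 1) + 2 by ring, pow_add]; norm_num
      rw [e]
      omega
  have hpos : 1 ≤ 3 ^ (2 * m + 1) := Nat.one_le_pow _ _ (by norm_num)
  generalize 3 ^ (2 * m + 1) = q at *
  obtain ⟨r, rfl⟩ : ∃ r, q = r + 1 := ⟨q - 1, by omega⟩
  rw [Nat.add_sub_cancel]
  intro h2
  have h3 : r % 16 = 2 ∨ r % 16 = 10 := by omega
  have h4 : ((r + 1) ^ 3 * r * ((r + 1) ^ 3 + 1)) % 16 = 0 := Nat.mod_eq_zero_of_dvd h2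
  have h5 : ((r + 1) ^ 3 * r * ((r + 1) ^ 3 + 1)) % 16 =
      ((r % 16 + 1) ^ 3 * (r % 16) * ((r % 16 + 1) ^ 3 + 1)) % 16 := by
    have e1 : r % 16 ≡ r [MOD 16] := Nat.mod_modEq r 16
    have e2 : (r % 16 + 1) ^ 3 ≡ (r + 1) ^ 3 [MOD 16] := (e1.add_right 1).pow 3
    exact ((e2.mul e1).mul (e2.add_right 1)).symm
  rw [h5] at h4
  rcases h3 with h3 | h3 <;> rw [h3] at h4 <;> norm_num at h4

variable {X : Type u} [Group X] [Finite X] {α : MulAut X} {A : Subgroup X}

/-- `A ≠ X` -/
theorem card_lt [IsSimpleGroup X] (h : Cfg α A) : Nat.card (↥A ⧸ center ↥A) ≠ Nat.card X := by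
  intro he
  have h1 : Nat.card (↥A ⧸ center ↥A) ≤ Nat.card A := Nat.card_le_card_of_surjective _ (QuotientGroup.mk'_surjective _)
  have h2 : A = ⊤ := Subgroup.eq_top_of_le_card A (he ▸ h1)
  apply h.ne
  ext x
  have : x ∈ fixedSubgroup α := h.le (by rw [h2]; exact mem_top x)
  exact this

/-- **`G₂(3)` in an exceptional group of odd characteristic.** -/
theorem exc_G [IsSimpleGroup X] (hnc : ¬ IsMulCommutative X) (h : Cfg α A) {p : ℕ} (hp : p.Prime) (hp2 : p ≠ 2)
    (hX : IsExceptionalChevChar p X ∨ IsTwistedE6D4Char p X ∨ Lie.IsoRee X)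
    {F : Type v} [Field F] [Fintype F] (hF : Fintype.card F = 3) (e : (↥A ⧸ center ↥A) ≃* ↥(chevG2.group F)) :
    ∃ (K : Type) (_ : Field K) (_ : Fintype K), Fintype.card K = 9 ∧ Nonempty (X ≃* ↥(chevG2.group K)) := by
  have hcA : Nat.card (↥A ⧸ center ↥A) = 4245696 := by
    rw [Nat.card_congr e.toEquiv, card_G, hF]
    norm_num
  have hZG : center ↥(chevG2.group F) = ⊥ := Cfsg.Agent.H70.OutCount.center_eq_bot Cfsg.Agent.H69.OutGF.hG2
  have hn := card_aut_G3 hF e hZG
  have hZX := center_bot_of_simple inferInstance hnc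
  have hdvd := card_quot_dvd A
  rw [hcA] at hdvd
  rw [← or_assoc] at hX
  rcases hX with hX | hX
  · rcases h.exc_cases hp hp2 hX with h7 | ⟨K, _, _, _, hK3, ⟨f⟩, hK⟩ | ⟨K, _, _, _, q, hq, hK, ⟨f⟩, hq4⟩
    · exfalso
      have h1 := h7.trans hn
      have h3 := eq_three hp hp2 ((pow_dvd_pow p (by norm_num)).trans h1)
      subst h3
      exact absurd (le_six h1) (by norm_num)
    · have : Fact p.Prime := ⟨hp⟩
      obtain ⟨m, hm, hKm⟩ := card_pow (K := K) (p := p)
      have h2 : Fintype.card K ^ 2 ∣ 8491392 := by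
        rcases hK with hK | ⟨hK, -⟩
        · exact ((pow_dvd_pow _ (by norm_num)).trans hK).trans hn
        · exact hK.trans hn
      have h3 := eq_three hp hp2 (by
        refine (pow_dvd_pow_of_dvd ?_ 2).trans h2
        rw [hKm]
        exact dvd_pow_self p (by omega))
      subst h3
      rw [hKm, ← pow_mul] at h2
      have h4 := le_six h2
      have hm3 : m = 1 ∨ m = 2 ∨ m = 3 := by omega
      rcases hm3 with rfl | rfl | rfl
      · exfalso
        apply h.card_lt
        rw [hcA, Nat.card_congr f.toEquiv, card_G, hKm]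
        norm_num
      · exact ⟨K, inferInstance, inferInstance, hKm, ⟨f⟩⟩
      · exfalso
        rcases hK with hK | ⟨-, hK⟩
        · have h5 := hK.trans hn
          rw [hKm, ← pow_mul] at h5
          exact absurd (le_six h5) (by norm_num)
        · obtain ⟨y, hy⟩ := hK (by
            rw [H166.FieldAut.card_ringAut 3 3 hKm]; decide)
          have h5 := h.two_mul_dvd hy hZX
          rw [hcA, Nat.card_congr f.toEquiv, card_G, hKm] at h5
          revert h5
          decide +kernel
    · exfalso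
      have : Fact p.Prime := ⟨hp⟩
      obtain ⟨m, hm, hKm⟩ := card_pow (K := K) (p := p)
      obtain ⟨g, hg, hqg⟩ : ∃ g : ℕ, 1 ≤ g ∧ q = p ^ g := by
        have h1 : q ∣ p ^ m := by rw [← hKm, hK]; exact dvd_pow_self q (by norm_num)
        obtain ⟨j, -, hj⟩ := (Nat.dvd_prime_pow hp).1 h1
        refine ⟨j, ?_, hj⟩
        by_contra hlt
        have hj0 : j = 0 := by omega
        rw [hj0, pow_zero] at hj
        exact absurd hq.one_lt (by omega)
      have h2 := hq4.trans hn
      have h3 := eq_three hp hp2 (by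
        refine Dvd.dvd.trans ?_ h2
        rw [hqg, ← pow_mul]
        exact pow_dvd_pow p (by omega))
      subst h3
      rw [hqg, ← pow_mul] at h2
      have h4 := le_six h2
      have hg1 : g = 1 := by omega
      subst hg1
      rw [pow_one] at hqg
      subst hqg
      have hcK : Fintype.card K = 3 ^ 3 := hK
      have ho : Odd (Nat.card (Out ↥(twistedD4 K 3))) := by
        rw [Cfsg.Agent.H69.OutTwD4.card_out hq hK 3, H166.FieldAut.card_ringAut 3 3 hcK]
        decide
      have hfin : Finite ↥(twistedD4 K 3) := Finite.of_equiv X f.toEquiv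
      obtain ⟨y, hy⟩ := inner_of_odd_out ho (h.congr_sq f)
      have h5 := h.two_mul_dvd (inner_of_equiv f hy) hZX
      rw [hcA, Nat.card_congr f.toEquiv, (OrdDiv.table.{0}).td4 K 3 hq hK] at h5
      revert h5
      decide +kernel
  · exfalso
    obtain ⟨K, _, _, m, hm, hK, ⟨f⟩⟩ := hX
    rw [Nat.card_congr f.toEquiv, (OrdDiv.table.{0}).ree K m hm hK] at hdvd
    exact ree_sixteen m (Dvd.dvd.trans (by decide) hdvd)

end Cfg

end Cfsg.Agent.H293

private theorem dce_315f8db92c34 : _root_.True := by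
  try have : _root_.True := by simp only [_root_.Cfsg.Agent.H70.OutCount.realised.congr_simp]
  exact _root_.True.intro
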