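import Cfsg.Agent.H293.TwExc
import Cfsg.Agent.CpAut.RgdTwE6
import Cfsg.Agent.KFacts.TwESix.Comb
import Cfsg.Agent.UGT.U2.FOne.HexMain_m3
import Cfsg.Agent.UGT.U2.FOne.HexGTwo_m3
import Cfsg.Agent.UGT.Cov.Res_m3
import Cfsg.Agent.H69.OutGF
import Cfsg.Agent.H293.Cfg
import Cfsg.Agent.H69.OutTwD4
import Cfsg.Agent.S1071
import Cfsg.Prelude.Def_LieTypeChar
import Cfsg.Agent.FastGrp
import Cfsg.Agent.Prune
set_option linter.all false
prune_inst 0x7f00000000000000000000000000000000000000000000000000000000000000000000000000000000000000000000000000000000000000000000000000000000000000000000000000000000000000003fffffffffffffffffffffffffffbeffbdffffffff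
open scoped Cfsg.Agent.FastGrp

-- part: H293/TwTwE
section
/-!
# Involutory automorphisms of `²E₆(q)`, odd characteristic `p`

* `twE6` : `p ^ 7` divides the order of the fixed subgroup of every automorphism `α` with `α * α = 1`.
-/

set_option autoImplicit false
set_option linter.unusedSectionVars false
set_option maxRecDepth 20000

namespace Cfsg.Agent.H293.TwFix.TwE

open CoxeterSystem Cfsg.Agent.ChevalleyStructure.CoxeterGeom Cfsg.Agent.Tits.Roots Cfsg.Agent.Tits.Core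
  Cfsg.Agent.Tits.Exchange
  Cfsg.Agent.Tits.RootComb Cfsg.Agent.Nodes.Comb Cfsg.Agent.Nodes.Reps Cfsg.Agent.Nodes.BNOf
  Cfsg.Agent.Nodes.BNOf.RGD Cfsg.Agent.Nodes.Unique Cfsg.Agent.Nodes.Coroot Cfsg.Agent.KFacts.RgdSL
  Cfsg.Agent.KFacts.RgdDiag Cfsg.Agent.KFacts.RgdAut Cfsg.Agent.Nodes.OppDec Cfsg.Agent.Nodes.Bruhat
  Cfsg.Agent.KFacts.RgdRigid Cfsg.Agent.Nodes.RGDTwE6 Cfsg.Agent.KFacts.TwESix.Comb
open Cfsg.Lie Cfsg.Agent.ChevalleyStructure

universe u

/-- the lists of roots -/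
def jL : Fin 4 → List ℕ :=
  ![[0, 2, 3, 4, 5, 7, 10, 11, 15, 16, 17, 18, 19, 20], [1, 2, 4, 6, 7, 8, 9, 10, 13, 14, 15, 16, 20, 21],
    [0, 2, 3, 4, 8, 9, 12, 14, 16, 18, 19, 20, 21, 22], [3, 4, 5, 6, 7, 8, 13, 14, 15, 16, 17, 19, 22, 23]]

theorem okJ : ∀ j, ((jL j).map fun k => rts.getD k 0).length = 2 * 7 ∧ ((jL j).map fun k => rts.getD k 0).Nodup ∧
    ∀ r ∈ (jL j).map fun k => rts.getD k 0, r ∈ rts ∧ (∀ k, 0 ≤ r k) ∧ pairing A j r ≠ 0 ∧
      ∃ k, k ≠ j ∧ A j k ≠ 0 ∧ 0 < r k := by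
  decide +kernel

/-- the triples of roots -/
def tL : List (ℕ × ℕ × ℕ) :=
  [(15, 19, 21), (3, 8, 10), (0, 4, 6), (1, 5, 7), (12, 13, 14), (2, 9, 11), (17, 18, 22)]

/-- the pairs of roots -/
def tP : List ((Fin 4 → ℤ) × (Fin 4 → ℤ)) := tL.map fun t => (rts.getD t.1 0, rts.getD t.2.1 0)

theorem okT : tP.length = 7 ∧ (tP.flatMap fun t => [t.1, t.2, t.1 + t.2]).Nodup ∧
    ∀ t ∈ tP, t.1 ∈ rts ∧ t.2 ∈ rts ∧ (∀ k, 0 ≤ t.1 k) ∧ (∀ k, 0 ≤ t.2 k) ∧ bf t.1 t.1 = bf t.2 t.2 ∧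
      2 * bf t.1 t.2 = - bf t.1 t.1 := by
  decide +kernel

theorem twE6 {K : Type} [Field K] [Fintype K] (p : ℕ) [hp : Fact p.Prime] [CharP K p] (hp2 : p ≠ 2) {q : ℕ}
    (hq : IsPrimePow q) (hK : Fintype.card K = q ^ 2) {α : MulAut ↥(twistedE6 K q)} (hα : α * α = 1) :
    p ^ 7 ∣ Nat.card ↥(fixedSubgroup α) := by
  obtain ⟨φ, hφ, hqq⟩ := ChevalleyStructure.TwE6Basic.exists_frob hq hK
  have hW : Finite CoxeterMatrix.F₄.Group :=
    Nodes.RGDFold.finite_W (hp := Nodes.RGDTwE6.hp) CoxeterMatrix.F₄.toCoxeterSystem Nodes.RGDTwE6.isCartan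
      Nodes.RGDTwE6.foldData
  obtain ⟨cs, hcs⟩ : ∃ cs : CoxeterSystem CoxeterMatrix.F₄ CoxeterMatrix.F₄.Group, cs = cs :=
    ⟨CoxeterMatrix.F₄.toCoxeterSystem, rfl⟩
  have R := Cfsg.Agent.Nodes.RGDTwE6.rgd cs hφ hqq p
  have hG1 : RGD.Sup (X φ q) {x | IsRoot cs isCartan x} = ⊤ := Nodes.RGDTwE6.G1_eq_top cs hφ hqq
  have hG := GG_eq_top (T := T K q) hG1
  obtain ⟨hs, hna⟩ := Cfsg.Agent.S1070.result hq hK
  have hcore := core_bot R 0
  refine dvd_of_big (big (hp.out.odd_of_ne_two hp2) R hG hcore (p_le_card R) (fun j => ?_) (fun σ hσ ψ D hs => ?_)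
    ⟨tP, okT.1, fun t ht => ?_, okT.2.1⟩ hα)
  · obtain ⟨h1, h2, h3⟩ := okJ j
    refine ⟨_, h1, h2, fun r hr => ?_⟩
    obtain ⟨h4, h5, h6, h7⟩ := h3 r hr
    exact ⟨⟨(mem_rts cs).2 h4, h5⟩, h6, h7⟩
  · exfalso
    refine hσ (KFacts.TwESix.OutTwo.perm_F4 σ (D.matrix R) fun h3 => ?_)
    apply KFacts.TwESix.OutTwo.card_ne hφ hqq hK hq.one_lt
    have h4 := D.pos 0
    rw [h3] at h4
    refine (Nat.card_congr (Equiv.subtypeEquiv ψ.toEquiv fun x => (h4 x).symm)).symm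
  · obtain ⟨h1, h2, h3, h4, h5, h6⟩ := okT.2.2 t ht
    exact ⟨a2 cs ((mem_rts cs).2 h1) ((mem_rts cs).2 h2) h5 h6, h3, h4⟩

end Cfsg.Agent.H293.TwFix.TwE
end

-- part: H293/TwHex
section
/-!
# Involutory automorphisms of `G₂(q)` and `³D₄(q)`, odd characteristic: the bound

With `ql`, `qs` the orders of the long and short root groups: for every automorphism `α`, `α² = 1`, there is a normal form
`(J, g, k, φ, σ)`, and the `p`-group `U ∩ C(conj k * φ)` has order at least `ql * qs` if `σ = 1`, and order `m` with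
`(ql * qs) ^ 3 ≤ m ^ 2` if `σ ≠ 1`.
-/

set_option autoImplicit false
set_option linter.unusedSectionVars false

namespace Cfsg.Agent.H293.TwFix.Hex

open CoxeterSystem Cfsg.Agent.ChevalleyStructure.CoxeterGeom Cfsg.Agent.Tits.Roots Cfsg.Agent.Tits.Core
  Cfsg.Agent.Tits.Exchange
  Cfsg.Agent.Tits.RootComb Cfsg.Agent.Nodes.Comb Cfsg.Agent.Nodes.Reps Cfsg.Agent.Nodes.BNOf
  Cfsg.Agent.Nodes.BNOf.RGD Cfsg.Agent.Nodes.Unique Cfsg.Agent.Nodes.Coroot Cfsg.Agent.KFacts.RgdSL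
  Cfsg.Agent.KFacts.RgdDiag Cfsg.Agent.KFacts.RgdAut Cfsg.Agent.Nodes.OppDec Cfsg.Agent.Nodes.Bruhat
  Cfsg.Agent.UGT.U2.FOne.Hexa Cfsg.Agent.SplitTwo

/-! ### Angular order -/

/-- the determinant of two roots -/
def dt (i j : ZMod (2 * 6)) : ℤ := (tab i).1 * (tab j).2 - (tab i).2 * (tab j).1

/-- the root `k` is a positive combination of the roots `i` and `j` -/
def Bt (i j k : ZMod (2 * 6)) : Prop :=
  (i = j ∧ k = i) ∨ (i = j + 6 ∧ (k = i ∨ k = j)) ∨ (dt i j ≠ 0 ∧ 0 < dt k j * dt i j ∧ 0 < dt i k * dt i j)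

instance (i j k : ZMod (2 * 6)) : Decidable (Bt i j k) := by unfold Bt; infer_instance

theorem dt_zero : ∀ i j : ZMod (2 * 6), dt i j = 0 → i = j ∨ i = j + 6 := by decide +kernel

theorem dt_id : ∀ i j k : ZMod (2 * 6), dt i j * (tab k).1 = dt k j * (tab i).1 + dt i k * (tab j).1 ∧
    dt i j * (tab k).2 = dt k j * (tab i).2 + dt i k * (tab j).2 := by decide +kernel

theorem bt_seven : ∀ i j k : ZMod (2 * 6), Bt i j k → Bt (7 - i) (7 - j) (7 - k) := by decide +kernel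

section Comb

variable {I W : Type*} [Fintype I] [DecidableEq I] [Group W] {M : CoxeterMatrix I}
  {cs : CoxeterSystem M W} {A : I → I → ℤ} {h : IsCartan M A} {l s : I}

theorem coord (H : TyG A l s) {m a b : ℤ} {i j k : ZMod (2 * 6)} :
    m • r l s k = a • r l s i + b • r l s j ↔
      m * (tab k).1 = a * (tab i).1 + b * (tab j).1 ∧ m * (tab k).2 = a * (tab i).2 + b * (tab j).2 := by
  constructor
  · intro he
    have h1 := congrFun he l
    have h2 := congrFun he s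
    simp only [Pi.smul_apply, Pi.add_apply, smul_eq_mul] at h1 h2
    unfold r at h1 h2
    rw [rv_l H, rv_l H, rv_l H] at h1
    rw [rv_s H, rv_s H, rv_s H] at h2
    exact ⟨h1, h2⟩
  · rintro ⟨h1, h2⟩
    funext x
    simp only [Pi.smul_apply, Pi.add_apply, smul_eq_mul]
    unfold r
    rcases H.all x with rfl | rfl
    · rw [rv_l H, rv_l H, rv_l H]; exact h1
    · rw [rv_s H, rv_s H, rv_s H]; exact h2

theorem btwn_iff (H : TyG A l s) {i j k : ZMod (2 * 6)} :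
    Btwn cs h (r l s i) (r l s j) (r l s k) ↔ Bt i j k := by
  constructor
  · rintro ⟨-, m, a, b, hm, ha, hb, he⟩
    obtain ⟨h1, h2⟩ := (coord H).1 he
    have e1 : m * dt k j = a * dt i j := by
      unfold dt
      linear_combination (tab j).2 * h1 - (tab j).1 * h2
    have e2 : m * dt i k = b * dt i j := by
      unfold dt
      linear_combination (tab i).1 * h2 - (tab i).2 * h1
    by_cases h0 : dt i j = 0
    · rw [h0, mul_zero] at e1 e2
      have e3 := dt_zero _ _ ((mul_eq_zero.1 e1).resolve_left hm.ne')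
      have e4 := dt_zero _ _ ((mul_eq_zero.1 e2).resolve_left hm.ne')
      rcases dt_zero _ _ h0 with rfl | h5
      · rcases e3 with rfl | h6
        · exact Or.inl ⟨rfl, rfl⟩
        · exfalso
          subst h6
          rw [(tab_neg i).1] at h1
          rw [(tab_neg i).2] at h2
          have h7 : ∀ i : ZMod (2 * 6), (tab i).1 ≠ 0 ∨ (tab i).2 ≠ 0 := by decide
          rcases h7 i with h8 | h8
          · apply h8
            have : (m + a + b) * (tab i).1 = 0 := by linarith only [h1]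
            exact (mul_eq_zero.1 this).resolve_left (by omega)
          · apply h8
            have : (m + a + b) * (tab i).2 = 0 := by linarith
            exact (mul_eq_zero.1 this).resolve_left (by omega)
      · right; left
        refine ⟨h5, ?_⟩
        rcases e3 with h6 | h6
        · exact Or.inr h6
        · exact Or.inl (h6.trans h5.symm)
    · right; right
      refine ⟨h0, ?_, ?_⟩
      · have h5 : m * (dt k j * dt i j) = a * (dt i j * dt i j) := by rw [← mul_assoc, e1]; ring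
        have h6 : 0 < dt i j * dt i j := mul_self_pos.2 h0
        exact pos_of_mul_pos_right (h5 ▸ mul_pos ha h6) hm.le
      · have h5 : m * (dt i k * dt i j) = b * (dt i j * dt i j) := by rw [← mul_assoc, e2]; ring
        have h6 : 0 < dt i j * dt i j := mul_self_pos.2 h0
        exact pos_of_mul_pos_right (h5 ▸ mul_pos hb h6) hm.le
  · intro hB
    refine ⟨isRoot_r H k, ?_⟩
    rcases hB with ⟨rfl, rfl⟩ | ⟨rfl, rfl | rfl⟩ | ⟨h0, h1, h2⟩
    · exact ⟨2, 1, 1, by norm_num, by norm_num, by norm_num, by module⟩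
    · refine ⟨1, 2, 1, by norm_num, by norm_num, by norm_num, ?_⟩
      rw [r_neg]; module
    · refine ⟨1, 1, 2, by norm_num, by norm_num, by norm_num, ?_⟩
      rw [r_neg]; module
    · refine ⟨dt i j * dt i j, dt k j * dt i j, dt i k * dt i j, mul_self_pos.2 h0, h1, h2, ?_⟩
      rw [coord H]
      obtain ⟨e1, e2⟩ := dt_id i j k
      constructor
      · linear_combination dt i j * e1
      · linear_combination dt i j * e2

theorem pos_r (H : TyG A l s) : ∀ k : ZMod (2 * 6), k ∈ [1, 2, 3, 4, 5, 6] → r l s k ∈ Pos cs h := by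
  intro k hk
  refine ⟨isRoot_r H k, fun x => ?_⟩
  have h1 : ∀ k : ZMod (2 * 6), k ∈ [1, 2, 3, 4, 5, 6] → 0 ≤ (tab k).1 ∧ 0 ≤ (tab k).2 := by decide
  obtain ⟨h2, h3⟩ := h1 k hk
  unfold r
  rcases H.all x with rfl | rfl
  · rw [rv_l H]; exact h2
  · rw [rv_s H]; exact h3

open Classical in
/-- the map of the roots given by a map of the indices -/
noncomputable def rho (l s : I) (f : ZMod (2 * 6) → ZMod (2 * 6)) (x : I → ℤ) : I → ℤ :=
  if hx : ∃ k, x = r l s k then r l s (f hx.choose) else x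

theorem rho_r (H : TyG A l s) (f : ZMod (2 * 6) → ZMod (2 * 6)) (k : ZMod (2 * 6)) :
    rho l s f (r l s k) = r l s (f k) := by
  have hx : ∃ k', r l s k = r l s k' := ⟨k, rfl⟩
  unfold rho
  rw [dif_pos hx, ← r_inj H hx.choose_spec]

end Comb

section Grp

variable {I W Y : Type*} [Fintype I] [DecidableEq I] [Group W] [Finite W] [Group Y] {M : CoxeterMatrix I}
  {cs : CoxeterSystem M W} {A : I → I → ℤ} {h : IsCartan M A} {p : ℕ} {T : Subgroup Y} {n : I → Y}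
  {X : (I → ℤ) → Subgroup Y} {l s : I}

/-- the permutation of the root groups -/
theorem rmap (H : TyG A l s) {f : ZMod (2 * 6) → ZMod (2 * 6)} (hf1 : ∀ k, f (f k) = k)
    (hf2 : ∀ i j k, Bt i j k → Bt (f i) (f j) (f k)) {β : MulAut Y}
    (hβ : ∀ k x, β x ∈ X (r l s (f k)) ↔ x ∈ X (r l s k)) : RMap cs h X β (rho l s f) := by
  refine ⟨fun x hx => ?_, fun x hx y => ?_, fun x hx => ?_, fun x y z hx hy hz => ?_⟩
  · obtain ⟨k, rfl⟩ := (isRoot_iff H).1 hx
    rw [rho_r H]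
    exact isRoot_r H _
  · obtain ⟨k, rfl⟩ := (isRoot_iff H).1 hx
    rw [rho_r H]
    exact hβ k y
  · obtain ⟨k, rfl⟩ := (isRoot_iff H).1 hx
    rw [rho_r H, rho_r H, hf1]
  · obtain ⟨i, rfl⟩ := (isRoot_iff H).1 hx
    obtain ⟨j, rfl⟩ := (isRoot_iff H).1 hy
    obtain ⟨k, rfl⟩ := (isRoot_iff H).1 hz.1
    rw [rho_r H, rho_r H, rho_r H]
    exact (btwn_iff H).2 (hf2 _ _ _ ((btwn_iff H).1 hz))

variable {R : RGD cs h p T n X}

/-- `σ ≠ 1`: the action on the root groups -/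
theorem swap_mem (H : TyG A l s) {α : MulAut Y} {J : Set I} {g k : Y} {φ : MulAut Y} {σ : Equiv.Perm I}
    (N : NForm R α J g k φ σ) (hσ : σ ≠ 1) :
    (J = ∅ ∧ σ l = s ∧ σ s = l) ∧ ∀ i x, (MulAut.conj k * φ) x ∈ X (r l s (7 - i)) ↔ x ∈ X (r l s i) := by
  have hsw : σ l = s ∧ σ s = l := by
    have hl : σ l = s := by
      rcases H.all (σ l) with h1 | h1
      · exfalso
        apply hσ
        ext i
        rw [Equiv.Perm.one_apply]
        rcases H.all i with rfl | rfl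
        · exact h1
        · rcases H.all (σ i) with h2 | h2
          · exact absurd (σ.injective (h2.trans h1.symm)) H.ne.symm
          · exact h2
      · exact h1
    refine ⟨hl, ?_⟩
    rcases H.all (σ s) with h2 | h2
    · exact h2
    · exact absurd (σ.injective (h2.trans hl.symm)) H.ne.symm
  have hJ : J = ∅ := by
    ext i
    refine ⟨fun hi => ?_, fun hi => hi.elim⟩
    have := N.fix i hi
    rcases H.all i with rfl | rfl
    · exact absurd (this.symm.trans hsw.1) H.ne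
    · exact absurd (this.symm.trans hsw.2) H.ne.symm
  subst hJ
  refine ⟨⟨rfl, hsw⟩, ?_⟩
  have hM := N.diag.matrix R
  have hk : k ∈ T := by
    have h1 := N.rp
    rw [wJ_empty] at h1
    exact h1.mem_of_one
  have hT : ∀ i x, (MulAut.conj k * φ) x ∈ X (r l s i) ↔ φ x ∈ X (r l s i) := by
    intro i x
    rw [MulAut.mul_apply, MulAut.conj_apply]
    have h1 := R.tor _ (isRoot_r H i) k hk
    constructor
    · intro h2
      rw [← h1] at h2
      obtain ⟨y, hy, he⟩ := h2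
      have h3 : k * y * k⁻¹ = k * φ x * k⁻¹ := he
      have h4 : y = φ x := mul_left_cancel (mul_right_cancel h3)
      exact h4 ▸ hy
    · intro h2
      rw [← h1]
      exact ⟨_, h2, rfl⟩
  intro i x
  rw [hT]
  have hhat : ∀ j : ℕ, hat cs σ hM ((cs.simple l * cs.simple s) ^ j) = (cs.simple s * cs.simple l) ^ j := by
    intro j
    rw [map_pow, map_mul, hat_simple, hat_simple, hsw.1, hsw.2]
  obtain ⟨j, -, rfl | rfl⟩ := exists_rot i
  · have h1 := N.diag.root R hM ((cs.simple l * cs.simple s) ^ j) l x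
    rw [hhat, hsw.1, ← r_six (l := l) (s := s), rep_rot H, ← r_one (l := l) (s := s), rep_rot' H] at h1
    rw [← h1]
    congr! 3
    ring
  · have h1 := N.diag.root R hM ((cs.simple l * cs.simple s) ^ j) s x
    rw [hhat, hsw.2, ← r_six (l := l) (s := s), rep_rot' H, ← r_one (l := l) (s := s), rep_rot H] at h1
    rw [← h1]
    congr! 3
    ring

/-- `J = ∅`, `σ = 1` -/
theorem bound_id [Finite Y] [hp : Fact p.Prime] (hp2 : Odd p) {α : MulAut Y} (hα : α * α = 1)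
    {g k : Y} {φ : MulAut Y} (N : NForm R α ∅ g k φ 1) [DecidableEq (I → ℤ)] (S0 : Finset (I → ℤ))
    (hS0 : ∀ r ∈ S0, r ∈ Pos cs h) :
    (∀ r, IsRoot cs h r → ∀ x ∈ X r, (MulAut.conj k * φ) x ∈ X r) ∧
    ∏ r ∈ S0, Nat.card ↥(X r ⊓ fixedSubgroup (MulAut.conj k * φ)) ≤
      Nat.card ↥(Sup X (Pos cs h) ⊓ fixedSubgroup (MulAut.conj k * φ)) := by
  have h2 := N.sq hα
  have hββ : ∀ x, (MulAut.conj k * φ) ((MulAut.conj k * φ) x) = x := fun x => DFunLike.congr_fun h2 x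
  have H := rmap_of R N.diag (fun _ _ => rfl) N.rp h2
  have hw : wJ cs (∅ : Set I) = 1 := Cfsg.Agent.UGT.U2.FOne.Hexa.wJ_empty
  have hρ : (fun r : I → ℤ => rep cs h (wJ cs (∅ : Set I)) (r ∘ (1 : Equiv.Perm I).symm)) = fun r => r := by
    funext r
    rw [hw, map_one, Module.End.one_apply]
    rfl
  rw [hρ] at H
  refine ⟨fun r hr x hx => (H.mem r hr x).2 hx, ?_⟩
  obtain ⟨S, hS⟩ := exists_finset_pos (cs := cs) (h := h) (P := fun _ => True)
  have h3 := card_fix R hp2 hp.out (β := MulAut.conj k * φ) hββ H S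
    (fun r hr => ((hS r).1 hr).1) (fun x hx y hy z hz => by
      have hx' := (hS x).1 hx
      have hy' := (hS y).1 hy
      rw [Finset.mem_coe, hS]
      exact ⟨closed_pos x hx'.1 y hy'.1 z hz, trivial⟩)
    (fun r hr => hr)
  simp only [if_true] at h3
  rw [Finset.prod_pow] at h3
  have h4 : ∏ r ∈ S, Nat.card ↥(X r ⊓ fixedSubgroup (MulAut.conj k * φ)) ≤
      Nat.card ↥(Sup X (S : Set (I → ℤ)) ⊓ fixedSubgroup (MulAut.conj k * φ)) :=
    (Nat.pow_le_pow_iff_left two_ne_zero).1 h3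
  have h5 : Nat.card ↥(Sup X (S : Set (I → ℤ)) ⊓ fixedSubgroup (MulAut.conj k * φ)) ≤
      Nat.card ↥(Sup X (Pos cs h) ⊓ fixedSubgroup (MulAut.conj k * φ)) :=
    Subgroup.card_le_of_le (inf_le_inf_right _ (Sup_mono fun r hr => ((hS r).1 hr).1))
  refine le_trans ?_ (h4.trans h5)
  exact Finset.prod_le_prod_of_subset_of_one_le' (fun r hr => (hS r).2 ⟨hS0 r hr, trivial⟩) fun r _ _ => Nat.card_pos

/-- the moved roots for a given map of the roots -/
theorem moved_bound' [Finite Y] [hp : Fact p.Prime] (hp2 : Odd p) (R : RGD cs h p T n X) {β : MulAut Y}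
    (hββ : ∀ x, β (β x) = x) {ρ : (I → ℤ) → (I → ℤ)} (H : RMap cs h X β ρ) [DecidableEq (I → ℤ)] (L : Finset (I → ℤ))
    (hL : ∀ r ∈ L, r ∈ Pos cs h ∧ ρ r ∈ Pos cs h ∧ ρ r ≠ r) :
    ∏ r ∈ L, Nat.card ↥(X r) ≤ Nat.card ↥(Sup X (Pos cs h) ⊓ fixedSubgroup β) ^ 2 := by
  obtain ⟨S, hS⟩ := exists_finset_pos (cs := cs) (h := h) (P := fun r => ρ r ∈ Pos cs h)
  have h3 := card_fix R hp2 hp.out (β := β) hββ H S
    (fun r hr => ((hS r).1 hr).1) (fun x hx y hy z hz => by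
      have hx' := (hS x).1 hx
      have hy' := (hS y).1 hy
      rw [Finset.mem_coe, hS]
      exact ⟨closed_pos x hx'.1 y hy'.1 z hz, closed_pos _ hx'.2 _ hy'.2 _ (H.btwn x y z hx'.1.1 hy'.1.1 hz)⟩)
    (fun r hr => by
      rw [hS] at hr ⊢
      exact ⟨hr.2, by rw [H.inv r hr.1.1]; exact hr.1⟩)
  have hLS : L ⊆ S := fun r hr => (hS r).2 ⟨(hL r hr).1, (hL r hr).2.1⟩
  have h4 : ∏ r ∈ L, Nat.card ↥(X r) ≤
      ∏ r ∈ S, (if ρ r = r then Nat.card ↥(X r ⊓ fixedSubgroup β) ^ 2 else Nat.card ↥(X r)) := by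
    calc ∏ r ∈ L, Nat.card ↥(X r) = ∏ r ∈ L, (if ρ r = r then
          Nat.card ↥(X r ⊓ fixedSubgroup β) ^ 2 else Nat.card ↥(X r)) :=
          Finset.prod_congr rfl fun r hr => by rw [if_neg (hL r hr).2.2]
      _ ≤ _ := by
        refine Finset.prod_le_prod_of_subset_of_one_le' hLS fun r _ _ => ?_
        split_ifs
        · exact Nat.one_le_pow _ _ Nat.card_pos
        · exact Nat.card_pos
  refine (h4.trans h3).trans (Nat.pow_le_pow_left ?_ 2)
  refine Subgroup.card_le_of_le (inf_le_inf_right _ (Sup_mono fun r hr => ((hS r).1 hr).1))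

/-! ### the two triples -/

section Par

variable {E : Type*} [Field E] {θ : E ≃+* E} {x1 x2 x3 x4 x5 x6 : E → Y}

theorem card_one (P : HexPar θ (fun k => X (r l s k)) x1 x2 x3 x4 x5 x6) : Nat.card ↥(X (r l s 1)) = Nat.card E :=
  (Nat.card_congr (Equiv.ofBijective (fun a => (⟨x1 a, (P.mem1 _).2 ⟨a, rfl⟩⟩ : ↥(X (r l s 1))))
    ⟨fun a b e => P.inj1 a b (Subtype.mk.inj e), fun y => by
      obtain ⟨a, ha⟩ := (P.mem1 _).1 y.2
      exact ⟨a, Subtype.ext ha⟩⟩)).symm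

theorem card_three (P : HexPar θ (fun k => X (r l s k)) x1 x2 x3 x4 x5 x6) : Nat.card ↥(X (r l s 3)) = Nat.card E :=
  (Nat.card_congr (Equiv.ofBijective (fun a => (⟨x3 a, (P.mem3 _).2 ⟨a, rfl⟩⟩ : ↥(X (r l s 3))))
    ⟨fun a b e => P.inj3 a b (Subtype.mk.inj e), fun y => by
      obtain ⟨a, ha⟩ := (P.mem3 _).1 y.2
      exact ⟨a, Subtype.ext ha⟩⟩)).symm

theorem card_five (P : HexPar θ (fun k => X (r l s k)) x1 x2 x3 x4 x5 x6) : Nat.card ↥(X (r l s 5)) = Nat.card E :=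
  (Nat.card_congr (Equiv.ofBijective (fun a => (⟨x5 a, (P.mem5 _).2 ⟨a, rfl⟩⟩ : ↥(X (r l s 5))))
    ⟨fun a b e => P.inj5 a b (Subtype.mk.inj e), fun y => by
      obtain ⟨a, ha⟩ := (P.mem5 _).1 y.2
      exact ⟨a, Subtype.ext ha⟩⟩)).symm

theorem card_two (P : HexPar θ (fun k => X (r l s k)) x1 x2 x3 x4 x5 x6) :
    Nat.card ↥(X (r l s 2)) = Nat.card {a : E // θ a = a} :=
  (Nat.card_congr (Equiv.ofBijective (fun a : {a : E // θ a = a} => (⟨x2 a, (P.mem2 _).2 ⟨a, a.2, rfl⟩⟩ : ↥(X (r l s 2))))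
    ⟨fun a b e => Subtype.ext (P.inj2 a b a.2 b.2 (Subtype.mk.inj e)), fun y => by
      obtain ⟨a, ha, ha'⟩ := (P.mem2 _).1 y.2
      exact ⟨⟨a, ha⟩, Subtype.ext ha'⟩⟩)).symm

theorem card_four (P : HexPar θ (fun k => X (r l s k)) x1 x2 x3 x4 x5 x6) :
    Nat.card ↥(X (r l s 4)) = Nat.card {a : E // θ a = a} :=
  (Nat.card_congr (Equiv.ofBijective (fun a : {a : E // θ a = a} => (⟨x4 a, (P.mem4 _).2 ⟨a, a.2, rfl⟩⟩ : ↥(X (r l s 4))))
    ⟨fun a b e => Subtype.ext (P.inj4 a b a.2 b.2 (Subtype.mk.inj e)), fun y => by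
      obtain ⟨a, ha, ha'⟩ := (P.mem4 _).1 y.2
      exact ⟨⟨a, ha⟩, Subtype.ext ha'⟩⟩)).symm

theorem card_six (P : HexPar θ (fun k => X (r l s k)) x1 x2 x3 x4 x5 x6) :
    Nat.card ↥(X (r l s 6)) = Nat.card {a : E // θ a = a} :=
  (Nat.card_congr (Equiv.ofBijective (fun a : {a : E // θ a = a} => (⟨x6 a, (P.mem6 _).2 ⟨a, a.2, rfl⟩⟩ : ↥(X (r l s 6))))
    ⟨fun a b e => Subtype.ext (P.inj6 a b a.2 b.2 (Subtype.mk.inj e)), fun y => by
      obtain ⟨a, ha, ha'⟩ := (P.mem6 _).1 y.2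
      exact ⟨⟨a, ha⟩, Subtype.ext ha'⟩⟩)).symm

theorem kk_map (β : MulAut Y) (a b : Y) : β (kk a b) = kk (β a) (β b) := by
  unfold kk
  simp only [map_mul, map_inv]

/-- **the long triple** -/
theorem long_tri [Finite Y] (P : HexPar θ (fun k => X (r l s k)) x1 x2 x3 x4 x5 x6) {β : MulAut Y}
    (hβ : ∀ g, β (β g) = g) (hX : ∀ k, ∀ x ∈ X (r l s k), β x ∈ X (r l s k)) :
    Nat.card ↥(X (r l s 2)) ≤ Nat.card ↥(X (r l s 2) ⊓ fixedSubgroup β) * Nat.card ↥(X (r l s 6) ⊓ fixedSubgroup β) *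
      Nat.card ↥(X (r l s 4) ⊓ fixedSubgroup β) := by
  let _ : CommGroup ↥(X (r l s 2)) := { (inferInstance : Group ↥(X (r l s 2))) with
    mul_comm := fun u v => Subtype.ext (cen22 P u u.2 v v.2) }
  have hmem : ∀ u ∈ X (r l s 2), ∀ v ∈ X (r l s 6), kk u v ∈ X (r l s 4) := by
    intro u hu v hv
    obtain ⟨a, ha, rfl⟩ := m2 P u hu
    obtain ⟨b, hb, rfl⟩ := m6 P v hv
    rw [P.rel.c26 a b ha hb]
    exact (P.mem4 _).2 ⟨_, by rw [map_mul, ha, hb], rfl⟩
  have h := tri_abs (resK hβ (hX 2)) (resK hβ (hX 6)) (resK hβ (hX 4))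
    (fun u v => (⟨kk (u : Y) v, hmem u u.2 v v.2⟩ : ↥(X (r l s 4)))) (fun u => Subtype.ext (hβ u))
    (fun u => Subtype.ext (hβ u)) (fun u v => ?_) (fun u v => ?_) (fun v hv u u' he => ?_) ?_
  · rwa [card_fix_eq (β := β) _ _ fun _ => rfl, card_fix_eq (β := β) _ _ fun _ => rfl,
      card_fix_eq (β := β) _ _ fun _ => rfl] at h
  · apply Subtype.ext
    exact (kk_map β _ _).symm
  · apply Subtype.ext
    obtain ⟨a, ha, hua⟩ := m2 P u u.2
    obtain ⟨b, hb, hvb⟩ := m6 P v v.2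
    show kk ((u : Y)⁻¹) ((v : Y)⁻¹) = kk (u : Y) v
    rw [← hua, ← hvb, ← y_neg P.rel.add2 ha, ← y_neg P.rel.add6 hb,
      P.rel.c26 _ _ (by rw [map_neg, ha]) (by rw [map_neg, hb]), P.rel.c26 _ _ ha hb, neg_mul_neg]
  · apply Subtype.ext
    obtain ⟨a, ha, hua⟩ := m2 P u u.2
    obtain ⟨a', ha', hua'⟩ := m2 P u' u'.2
    obtain ⟨b, hb, hvb⟩ := m6 P v v.2
    have h1 : kk (u : Y) v = kk (u' : Y) v := congrArg Subtype.val he
    rw [← hua, ← hua', ← hvb, P.rel.c26 _ _ ha hb, P.rel.c26 _ _ ha' hb] at h1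
    have h2 := P.inj4 _ _ (by rw [map_mul, ha, hb]) (by rw [map_mul, ha', hb]) h1
    have hb0 : b ≠ 0 := by
      rintro rfl
      apply hv
      apply Subtype.ext
      rw [← hvb]
      exact y_zero P.rel.add6
    rw [← hua, ← hua', mul_right_cancel₀ hb0 h2]
  · rw [card_two P, card_six P]

theorem crs_eq_zero (h2 : (2 : E) ≠ 0) (hc : ∀ a, θ (θ (θ a)) = a) {a b : E} (hb : b ≠ 0) (h : crs θ a b = 0) : a = 0 := by
  unfold crs at h
  obtain ⟨c, hcc⟩ : ∃ c, c = a / b := ⟨_, rfl⟩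
  have hb1 : θ b ≠ 0 := (map_ne_zero θ).2 hb
  have hb2 : θ (θ b) ≠ 0 := (map_ne_zero θ).2 hb1
  have h3 : θ c + θ (θ c) = 0 := by
    rw [hcc, map_div₀, map_div₀]
    field_simp
    linear_combination h
  have h4 : θ (c + θ c) = 0 := by rw [map_add, h3]
  have h5 : θ c = -c := by
    have := (map_eq_zero θ).1 h4
    linear_combination this
  have h6 := hc c
  rw [h5, map_neg, h5, neg_neg, h5] at h6
  have h7 : c = 0 := by
    have : (2 : E) * c = 0 := by linear_combination -h6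
    exact (mul_eq_zero.1 this).resolve_left h2
  rw [hcc] at h7
  exact (div_eq_zero_iff.1 h7).resolve_right hb

theorem crs_sub (a a' b : E) : crs θ (a - a') b = crs θ a b - crs θ a' b := by
  unfold crs
  simp only [map_sub]
  ring

theorem trc_fix (hc : ∀ a, θ (θ (θ a)) = a) (a b : E) : θ (trc θ a b) = trc θ a b := by
  unfold trc
  rw [map_add, map_add, hc]; ring

/-- uniqueness of the decomposition in `X_2 X_3 X_4` -/
theorem uniq (R : RGD cs h p T n X) (H : TyG A l s) (P : HexPar θ (fun k => X (r l s k)) x1 x2 x3 x4 x5 x6)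
    {u2 u3 u4 v2 v3 v4 : Y} (hu2 : u2 ∈ X (r l s 2)) (hu3 : u3 ∈ X (r l s 3)) (hu4 : u4 ∈ X (r l s 4))
    (hv2 : v2 ∈ X (r l s 2)) (hv3 : v3 ∈ X (r l s 3)) (hv4 : v4 ∈ X (r l s 4)) (he : u2 * u3 * u4 = v2 * v3 * v4) :
    u3 = v3 := by
  have e1 : u4 * v4⁻¹ = u3⁻¹ * (u2⁻¹ * v2) * v3 := by
    calc u4 * v4⁻¹ = (u2 * u3)⁻¹ * (u2 * u3 * u4) * v4⁻¹ := by group
      _ = (u2 * u3)⁻¹ * (v2 * v3 * v4) * v4⁻¹ := by rw [he]
      _ = _ := by group
  have hB : Btwn cs h (r l s 4) (r l s 2) (r l s 3) := (btwn_iff H).2 (by decide)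
  have hne : ∀ i j : ZMod (2 * 6), i ≠ j → r l s i ≠ r l s j := fun i j hij e => hij (r_inj H e)
  have hne' : ∀ i j : ZMod (2 * 6), i ≠ j + 6 → r l s i ≠ -r l s j := fun i j hij e => hij (r_inj H (by rw [r_neg, e]))
  have h3b : X (r l s 3) ≤ X (r l s 2) ⊔ _root_.Cfsg.Agent.Nodes.Reps.btw cs h X (r l s 4) (r l s 2) := (le_btw_of hB).trans le_sup_right
  have e2 : u4 * v4⁻¹ = 1 := by
    have h1 : u4 * v4⁻¹ ∈ X (r l s 4) ⊓ (X (r l s 2) ⊔ btw cs h X (r l s 4) (r l s 2)) := by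
      refine Subgroup.mem_inf.2 ⟨mul_mem hu4 (inv_mem hv4), ?_⟩
      rw [e1]
      exact mul_mem (mul_mem (h3b (inv_mem hu3)) (Subgroup.mem_sup_left (mul_mem (inv_mem hu2) hv2))) (h3b hv3)
    rwa [Cfsg.Agent.UGT.U2.FOne.X_inf_tail R (isRoot_r H 4) (isRoot_r H 2) (hne _ _ (by decide)) (hne' _ _ (by decide)),
      Subgroup.mem_bot] at h1
  rw [e2] at e1
  have e3 : u2⁻¹ * v2 = u3 * v3⁻¹ := by
    calc u2⁻¹ * v2 = u3 * (u3⁻¹ * (u2⁻¹ * v2) * v3) * v3⁻¹ := by group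
      _ = u3 * 1 * v3⁻¹ := by rw [← e1]
      _ = _ := by group
  have h1 : u3 * v3⁻¹ ∈ X (r l s 3) ⊓ (X (r l s 2) ⊔ btw cs h X (r l s 3) (r l s 2)) :=
    Subgroup.mem_inf.2 ⟨mul_mem hu3 (inv_mem hv3), by
      rw [← e3]; exact Subgroup.mem_sup_left (mul_mem (inv_mem hu2) hv2)⟩
  rw [Cfsg.Agent.UGT.U2.FOne.X_inf_tail R (isRoot_r H 3) (isRoot_r H 2) (hne _ _ (by decide)) (hne' _ _ (by decide)),
      Subgroup.mem_bot] at h1
  exact mul_inv_eq_one.1 h1

/-- **the short triple** -/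
theorem short_tri [Finite Y] (R : RGD cs h p T n X) (H : TyG A l s) (h2 : (2 : E) ≠ 0)
    (P : HexPar θ (fun k => X (r l s k)) x1 x2 x3 x4 x5 x6) {β : MulAut Y}
    (hβ : ∀ g, β (β g) = g) (hX : ∀ k, ∀ x ∈ X (r l s k), β x ∈ X (r l s k)) :
    Nat.card ↥(X (r l s 1)) ≤ Nat.card ↥(X (r l s 1) ⊓ fixedSubgroup β) * Nat.card ↥(X (r l s 5) ⊓ fixedSubgroup β) *
      Nat.card ↥(X (r l s 3) ⊓ fixedSubgroup β) := by
  let _ : CommGroup ↥(X (r l s 1)) := { (inferInstance : Group ↥(X (r l s 1))) with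
    mul_comm := fun u v => Subtype.ext (cen11 P u u.2 v v.2) }
  have hc := P.rel.cube
  choose c1 hc1 using fun u : ↥(X (r l s 1)) => (P.mem1 (u : Y)).1 u.2
  choose c5 hc5 using fun u : ↥(X (r l s 5)) => (P.mem5 (u : Y)).1 u.2
  have hc1n : ∀ u, c1 u⁻¹ = - c1 u := by
    intro u
    apply P.inj1
    rw [hc1, x_neg P.rel.add1, hc1]
    rfl
  have hc5n : ∀ u, c5 u⁻¹ = - c5 u := by
    intro u
    apply P.inj5
    rw [hc5, x_neg P.rel.add5, hc5]
    rfl
  have h := tri_abs (resK hβ (hX 1)) (resK hβ (hX 5)) (resK hβ (hX 3))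
    (fun u v => (⟨x3 (crs θ (c1 u) (c5 v)), (P.mem3 _).2 ⟨_, rfl⟩⟩ : ↥(X (r l s 3)))) (fun u => Subtype.ext (hβ u))
    (fun u => Subtype.ext (hβ u)) (fun u v => ?_) (fun u v => ?_) (fun v hv u u' he => ?_) ?_
  · rwa [card_fix_eq (β := β) _ _ fun _ => rfl, card_fix_eq (β := β) _ _ fun _ => rfl,
      card_fix_eq (β := β) _ _ fun _ => rfl] at h
  · apply Subtype.ext
    show x3 (crs θ (c1 (resK hβ (hX 1) u)) (c5 (resK hβ (hX 5) v))) = β (x3 (crs θ (c1 u) (c5 v)))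
    have e1 := congrArg β (P.rel.c15 (c1 u) (c5 v))
    rw [kk_map, hc1, hc5, map_mul, map_mul] at e1
    have e2 := P.rel.c15 (c1 (resK hβ (hX 1) u)) (c5 (resK hβ (hX 5) v))
    rw [hc1, hc5] at e2
    have e3 : kk (β (u : Y)) (β (v : Y)) = kk ((resK hβ (hX 1) u : ↥(X (r l s 1))) : Y) ((resK hβ (hX 5) v : ↥(X (r l s 5))) : Y) := rfl
    rw [e3, e2] at e1
    refine uniq R H P ?_ ?_ ?_ ?_ ?_ ?_ e1
    · exact (P.mem2 _).2 ⟨_, by rw [map_neg, trc_fix hc], rfl⟩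
    · exact (P.mem3 _).2 ⟨_, rfl⟩
    · exact (P.mem4 _).2 ⟨_, trc_fix hc _ _, rfl⟩
    · exact hX 2 _ ((P.mem2 _).2 ⟨_, by rw [map_neg, trc_fix hc], rfl⟩)
    · exact hX 3 _ ((P.mem3 _).2 ⟨_, rfl⟩)
    · exact hX 4 _ ((P.mem4 _).2 ⟨_, trc_fix hc _ _, rfl⟩)
  · apply Subtype.ext
    show x3 (crs θ (c1 u⁻¹) (c5 v⁻¹)) = x3 (crs θ (c1 u) (c5 v))
    rw [hc1n, hc5n]
    congr 1
    unfold crs
    simp only [map_neg, neg_mul_neg]
  · apply Subtype.ext
    have h3 : x3 (crs θ (c1 u) (c5 v)) = x3 (crs θ (c1 u') (c5 v)) := congrArg Subtype.val he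
    have h4 := P.inj3 _ _ h3
    have hb0 : c5 v ≠ 0 := by
      intro h0
      apply hv
      apply Subtype.ext
      rw [← hc5 v, h0]
      exact x_zero P.rel.add5
    have h5 := crs_eq_zero (θ := θ) h2 hc hb0 (a := c1 u - c1 u') (by rw [crs_sub, h4, sub_self])
    rw [← hc1 u, ← hc1 u', sub_eq_zero.1 h5]
  · rw [card_one P, card_five P]

/-- **The bound.** -/
theorem main [Finite Y] [hp : Fact p.Prime] (hp2 : Odd p) (R : RGD cs h p T n X) (hG : GG cs h T X = ⊤)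
    (hcore : (RGD.B cs h T X).normalCore = ⊥) (H : TyG A l s) (h2 : (2 : E) ≠ 0)
    (P : HexPar θ (fun k => X (r l s k)) x1 x2 x3 x4 x5 x6) {α : MulAut Y} (hα : α * α = 1) :
    ∃ (J : Set I) (g k : Y) (φ : MulAut Y) (σ : Equiv.Perm I), NForm R α J g k φ σ ∧
      ((σ ≠ 1 ∧ (Nat.card E * Nat.card {a : E // θ a = a}) ^ 3 ≤
          Nat.card ↥(Sup X (Pos cs h) ⊓ fixedSubgroup (MulAut.conj k * φ)) ^ 2) ∨
        (σ = 1 ∧ Nat.card E * Nat.card {a : E // θ a = a} ≤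
          Nat.card ↥(Sup X (Pos cs h) ⊓ fixedSubgroup (MulAut.conj k * φ)))) := by
  classical
  obtain ⟨J, g, k, φ, σ, NF⟩ := norm_form hp2 R hG hcore hα
  refine ⟨J, g, k, φ, σ, NF, ?_⟩
  have hne : ∀ i j : ZMod (2 * 6), i ≠ j → r l s i ≠ r l s j := fun i j hij e => hij (r_inj H e)
  have hsq := NF.sq hα
  have hββ : ∀ x, (MulAut.conj k * φ) ((MulAut.conj k * φ) x) = x := fun x => DFunLike.congr_fun hsq x
  by_cases hσ : σ = 1
  · right
    refine ⟨hσ, ?_⟩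
    subst hσ
    have hf : ∀ (i0 i1 i2 i3 : ZMod (2 * 6)), [i0, i1, i2, i3].Nodup → (∀ i ∈ [i0, i1, i2, i3], r l s i ∈ Pos cs h ∧
          rep cs h (wJ cs J) (r l s i) ∈ Pos cs h ∧ rep cs h (wJ cs J) (r l s i) ≠ r l s i) →
        Nat.card ↥(X (r l s i0)) * (Nat.card ↥(X (r l s i1)) * (Nat.card ↥(X (r l s i2)) * Nat.card ↥(X (r l s i3)))) =
          (Nat.card E * Nat.card {a : E // θ a = a}) ^ 2 →
        Nat.card E * Nat.card {a : E // θ a = a} ≤
          Nat.card ↥(Sup X (Pos cs h) ⊓ fixedSubgroup (MulAut.conj k * φ)) := by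
      intro i0 i1 i2 i3 hnd hi hc
      rw [← Nat.pow_le_pow_iff_left two_ne_zero, ← hc]
      have h3 := moved_bound hp2 hα NF (fun _ _ => rfl) ([i0, i1, i2, i3].map (r l s)).toFinset (fun x hx => by
        rw [List.mem_toFinset, List.mem_map] at hx
        obtain ⟨i, hi', rfl⟩ := hx
        exact hi i hi')
      rw [List.prod_toFinset _ (hnd.map fun i j e => r_inj H e)] at h3
      simpa only [List.map_cons, List.map_nil, List.prod_cons, List.prod_nil, mul_one] using h3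
    have hJc : ¬ (l ∈ J ∧ s ∈ J) := fun hJ => simple_not_comm h H (NF.comm l hJ.1 s hJ.2)
    by_cases hl : l ∈ J
    · have hJ : J = {l} := by
        ext i
        rw [Set.mem_singleton_iff]
        refine ⟨fun hi => ?_, fun hi => hi ▸ hl⟩
        rcases H.all i with hi' | hi'
        · exact hi'
        · exact absurd ⟨hl, hi' ▸ hi⟩ hJc
      have hw : ∀ i, rep cs h (wJ cs J) (r l s i) = r l s (6 - i) := by
        intro i
        rw [hJ, Cfsg.Agent.Tits.Ext.wJ_singleton, rep_l H]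
      refine hf 1 5 2 4 (by decide) (fun i hi => ?_) ?_
      · rw [hw]
        have h3 : ∀ i : ZMod (2 * 6), i ∈ [1, 5, 2, 4] → i ∈ [1, 2, 3, 4, 5, 6] ∧ (6 - i) ∈ [1, 2, 3, 4, 5, 6] ∧
          6 - i ≠ i := by decide
        obtain ⟨h4, h5, h6⟩ := h3 i hi
        exact ⟨pos_r H i h4, pos_r H _ h5, hne _ _ h6⟩
      · rw [card_one P, card_five P, card_two P, card_four P]; ring
    · by_cases hs : s ∈ J
      · have hJ : J = {s} := by
          ext i
          rw [Set.mem_singleton_iff]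
          refine ⟨fun hi => ?_, fun hi => hi ▸ hs⟩
          rcases H.all i with hi' | hi'
          · exact absurd (hi' ▸ hi) hl
          · exact hi'
        have hw : ∀ i, rep cs h (wJ cs J) (r l s i) = r l s (8 - i) := by
          intro i
          rw [hJ, Cfsg.Agent.Tits.Ext.wJ_singleton, rep_s H]
        refine hf 2 6 3 5 (by decide) (fun i hi => ?_) ?_
        · rw [hw]
          have h3 : ∀ i : ZMod (2 * 6), i ∈ [2, 6, 3, 5] → i ∈ [1, 2, 3, 4, 5, 6] ∧ (8 - i) ∈ [1, 2, 3, 4, 5, 6] ∧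
            8 - i ≠ i := by decide
          obtain ⟨h4, h5, h6⟩ := h3 i hi
          exact ⟨pos_r H i h4, pos_r H _ h5, hne _ _ h6⟩
        · rw [card_two P, card_six P, card_three P, card_five P]; ring
      · have hJ : J = ∅ := by
          ext i
          refine ⟨fun hi => ?_, fun hi => hi.elim⟩
          rcases H.all i with hi' | hi'
          · exact absurd (hi' ▸ hi) hl
          · exact absurd (hi' ▸ hi) hs
        subst hJ
        obtain ⟨hX, h3⟩ := bound_id hp2 hα NF ([1, 5, 3, 2, 6, 4].map (r l s)).toFinset (fun x hx => by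
          rw [List.mem_toFinset, List.mem_map] at hx
          obtain ⟨i, hi', rfl⟩ := hx
          have h3 : ∀ i : ZMod (2 * 6), i ∈ [1, 5, 3, 2, 6, 4] → i ∈ [1, 2, 3, 4, 5, 6] := by decide
          exact pos_r H i (h3 i hi'))
        rw [List.prod_toFinset _ (List.Nodup.map (fun i j e => r_inj H e) (by decide))] at h3
        simp only [List.map_cons, List.map_nil, List.prod_cons, List.prod_nil, mul_one] at h3
        have h4 := long_tri P hββ (fun i x hx => hX _ (isRoot_r H i) x hx)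
        have h5 := short_tri R H h2 P hββ (fun i x hx => hX _ (isRoot_r H i) x hx)
        rw [card_two P] at h4
        rw [card_one P] at h5
        refine (Nat.mul_le_mul h5 h4).trans (le_trans (le_of_eq ?_) h3)
        ring
  · left
    refine ⟨hσ, ?_⟩
    obtain ⟨-, hmem⟩ := swap_mem H NF hσ
    have Hm := rmap (cs := cs) (h := h) (X := X) (β := MulAut.conj k * φ) H (f := fun i => 7 - i) (fun i => by ring)
      bt_seven hmem
    have h3 := moved_bound' hp2 R hββ Hm ([1, 2, 3, 4, 5, 6].map (r l s)).toFinset (fun x hx => by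
      rw [List.mem_toFinset, List.mem_map] at hx
      obtain ⟨i, hi', rfl⟩ := hx
      have h3 : ∀ i : ZMod (2 * 6), i ∈ [1, 2, 3, 4, 5, 6] → (7 - i) ∈ [1, 2, 3, 4, 5, 6] ∧ 7 - i ≠ i := by decide
      rw [rho_r H]
      exact ⟨pos_r H i hi', pos_r H _ (h3 i hi').1, hne _ _ (h3 i hi').2⟩)
    rw [List.prod_toFinset _ (List.Nodup.map (fun i j e => r_inj H e) (by decide))] at h3
    simp only [List.map_cons, List.map_nil, List.prod_cons, List.prod_nil, mul_one] at h3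
    rw [card_one P, card_two P, card_three P, card_four P, card_five P, card_six P] at h3
    refine le_trans (le_of_eq ?_) h3
    ring

end Par

/-- the fixed points of the conjugate automorphism -/
theorem move_V [Finite Y] [hp : Fact p.Prime] {α : MulAut Y} {J : Set I} {g k : Y} {φ : MulAut Y} {σ : Equiv.Perm I}
    (NF : NForm R α J g k φ σ) : ∃ V : Subgroup Y, V ≤ fixedSubgroup α ∧ IsPGroup p V ∧
      Nat.card V = Nat.card ↥(Sup X (Pos cs h) ⊓ fixedSubgroup (MulAut.conj k * φ)) := by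
  refine ⟨(Sup X (Pos cs h) ⊓ fixedSubgroup (MulAut.conj k * φ)).map (MulAut.conj g⁻¹).toMonoidHom, ?_, ?_, ?_⟩
  · rintro _ ⟨x, ⟨-, hx⟩, rfl⟩
    have hx' : (MulAut.conj k * φ) x = x := hx
    rw [← NF.eq] at hx'
    show α (g⁻¹ * x * g⁻¹⁻¹) = g⁻¹ * x * g⁻¹⁻¹
    have h1 : (MulAut.conj g * α * (MulAut.conj g)⁻¹) x = g * α (g⁻¹ * x * g⁻¹⁻¹) * g⁻¹ := by
      simp only [MulAut.mul_apply, MulAut.conj_apply, MulAut.conj_inv_apply, inv_inv]
    rw [h1] at hx'
    generalize α (g⁻¹ * x * g⁻¹⁻¹) = y at hx'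
    rw [← hx']; group
  · exact (R.isPGroup_Upos.to_le inf_le_left).map _
  · exact Subgroup.card_map_of_injective (MulAut.conj g⁻¹).injective

end Grp

end Cfsg.Agent.H293.TwFix.Hex
end

-- part: H293/TwRows
section
/-!
# Involutory automorphisms of `G₂(q)`, `³D₄(q)`, `q` odd: lower bounds for the `p`-part of the fixed subgroup

* `g2` : `q ^ 3 ≤ |V|`, or `q ^ 2 ≤ |V|` and `α` is a product of an inner automorphism and an automorphism fixing the root
  subgroups of the fundamental roots and their negatives;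
* `twD4` : `q ^ 4 ≤ |V|`.
-/

set_option autoImplicit false
set_option linter.unusedSectionVars false

namespace Cfsg.Agent.H293.TwFix.Rows

open CoxeterSystem Cfsg.Agent.ChevalleyStructure.CoxeterGeom Cfsg.Agent.Tits.Roots Cfsg.Agent.Tits.Core
  Cfsg.Agent.Tits.Exchange
  Cfsg.Agent.Tits.RootComb Cfsg.Agent.Nodes.Comb Cfsg.Agent.Nodes.Reps Cfsg.Agent.Nodes.BNOf
  Cfsg.Agent.Nodes.BNOf.RGD Cfsg.Agent.Nodes.Unique Cfsg.Agent.Nodes.Coroot Cfsg.Agent.KFacts.RgdSL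
  Cfsg.Agent.KFacts.RgdDiag Cfsg.Agent.KFacts.RgdAut Cfsg.Agent.Nodes.OppDec Cfsg.Agent.Nodes.Bruhat
  Cfsg.Agent.KFacts.RgdRigid Cfsg.Agent.KFacts.RgdChevCoord
open Cfsg.Lie Cfsg.Agent.ChevalleyStructure Cfsg.Agent.Nodes.RGDChev
open Cfsg.Agent.UGT.U2.FOne.Hexa

/-- the permutation of the fundamental root subgroups in both languages -/
theorem perm_of_diag {D : ChevalleyDatum} {l : ℕ} {M : CoxeterMatrix (Fin l)} (hp : IsType D l M) (hl : D.rank = l)
    {K : Type*} [Field K] {φ : MulAut ↥(D.group K)} (hD : _root_.Cfsg.Agent.KFacts.RgdDiag.Diag (TT D K) (XX D l K) φ 1) :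
    Cfsg.Agent.H70.ChevField.Perm D K φ 1 := by
  subst hl
  constructor
  · intro i
    have e1 := XV_sr (K := K) hp i
    ext g
    rw [Cfsg.Agent.H70.AutFix.mem_smul_iff]
    have h3 := hD.pos i (φ⁻¹ g)
    rw [MulAut.apply_inv_self, Subgroup.mem_subgroupOf, Subgroup.mem_subgroupOf, Equiv.Perm.one_apply, e1] at h3
    exact h3.symm
  · intro i
    have e1 := XV_neg_sr (K := K) hp i
    ext g
    rw [Cfsg.Agent.H70.AutFix.mem_smul_iff]
    have h3 := hD.neg i (φ⁻¹ g)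
    rw [MulAut.apply_inv_self, Subgroup.mem_subgroupOf, Subgroup.mem_subgroupOf, Equiv.Perm.one_apply, e1] at h3
    exact h3.symm

/-- **`G₂(q)`.** -/
theorem g2 {K : Type} [Field K] [Fintype K] {p : ℕ} [hp : Fact p.Prime] [CharP K p] (hp2 : p ≠ 2)
    [IsSimpleGroup ↥(chevG2.group K)] {α : MulAut ↥(chevG2.group K)} (hα : α * α = 1) :
    ∃ V : Subgroup ↥(chevG2.group K), V ≤ fixedSubgroup α ∧ IsPGroup p V ∧
      (Fintype.card K ^ 3 ≤ Nat.card V ∨ (Fintype.card K ^ 2 ≤ Nat.card V ∧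
        ∃ (x : ↥(chevG2.group K)) (φ : MulAut ↥(chevG2.group K)), Cfsg.Agent.H70.ChevField.Perm chevG2 K φ 1 ∧
          α = MulAut.conj x * φ)) := by
  obtain ⟨cs, hcs⟩ : ∃ cs : CoxeterSystem CoxeterMatrix.G₂ CoxeterMatrix.G₂.Group, cs = cs :=
    ⟨CoxeterMatrix.G₂.toCoxeterSystem, rfl⟩
  have hT := UGT.U2.FOne.GTwo.isType
  have hW : Finite CoxeterMatrix.G₂.Group := finite_W hT cs
  have R := rgd (K := K) hT cs p
  have hG1 : RGD.Sup (XX chevG2 2 K) {x | IsRoot cs hT.isCartan x} = ⊤ := G1_eq_top hT cs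
  have hG := GG_eq_top (T := TT chevG2 K) hG1
  have hcore := core_bot R (0 : Fin 2)
  have hK : Odd (Fintype.card K) := by
    have h2 : ringChar K ≠ 2 := by rw [ringChar.eq K p]; exact hp2
    have := FiniteField.odd_card_of_char_ne_two h2
    rwa [Nat.odd_iff]
  have hP : (fun k => XX chevG2 2 K (r (1 : Fin 2) 0 k)) = Cfsg.Agent.Hexagon.G2Side.X K :=
    funext UGT.U2.FOne.GTwo.X_eq
  have hpar := Cfsg.Agent.Hexagon.G2End.hexPar (F := K)
  rw [← hP] at hpar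
  obtain ⟨J, g, k, φ, σ, NF, hc⟩ := Hex.main (hp.out.odd_of_ne_two hp2) R hG hcore UGT.U2.FOne.GTwo.tyG
    (Cfsg.Agent.OddHalf.LongSL.two_ne_of_odd hK) hpar hα
  obtain ⟨V, h1, h2, h3⟩ := Hex.move_V (p := p) NF
  have hq : Nat.card {a : K // (RingEquiv.refl K) a = a} = Fintype.card K := by
    rw [← Nat.card_eq_fintype_card]
    exact Nat.card_congr (Equiv.subtypeUnivEquiv fun _ => rfl)
  rw [hq, Nat.card_eq_fintype_card] at hc
  refine ⟨V, h1, h2, ?_⟩
  rw [h3]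
  rcases hc with ⟨-, hc⟩ | ⟨hσ, hc⟩
  · left
    rw [← Nat.pow_le_pow_iff_left two_ne_zero]
    refine le_trans (le_of_eq ?_) hc
    ring
  · right
    subst hσ
    refine ⟨le_trans (le_of_eq (by ring)) hc, g⁻¹ * k * φ g, φ, perm_of_diag hT rfl NF.diag, ?_⟩
    have e := NF.eq
    have e2 : φ * MulAut.conj g = MulAut.conj (φ g) * φ := by
      ext x
      simp only [MulAut.conj_apply, map_mul, map_inv, _root_.MulAut.mul_apply, _root_.Subgroup.coe_mul, _root_.InvMemClass.coe_inv, _root_.Units.val_mul, _root_.Matrix.coe_units_inv]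
    calc α = (MulAut.conj g)⁻¹ * (MulAut.conj g * α * (MulAut.conj g)⁻¹) * MulAut.conj g := by group
      _ = (MulAut.conj g)⁻¹ * (MulAut.conj k * φ) * MulAut.conj g := by rw [e]
      _ = (MulAut.conj g)⁻¹ * MulAut.conj k * (φ * MulAut.conj g) := by group
      _ = (MulAut.conj g)⁻¹ * MulAut.conj k * (MulAut.conj (φ g) * φ) := by rw [e2]
      _ = MulAut.conj (g⁻¹ * k * φ g) * φ := by rw [map_mul, map_mul, map_inv]; group

/-- **`³D₄(q)`.** -/
theorem twD4 {K : Type} [Field K] [Fintype K] {p : ℕ} [hp : Fact p.Prime] [CharP K p] (hp2 : p ≠ 2) {q : ℕ}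
    (hq : 2 ≤ q) (hK : Fintype.card K = q ^ 3) [IsSimpleGroup ↥(twistedD4 K q)] {φ : K →+* K} (hφ : ∀ x, φ x = x ^ q)
    {α : MulAut ↥(twistedD4 K q)} (hα : α * α = 1) :
    ∃ V : Subgroup ↥(twistedD4 K q), V ≤ fixedSubgroup α ∧ IsPGroup p V ∧ q ^ 4 ≤ Nat.card V := by
  classical
  obtain ⟨cs, hcs⟩ : ∃ cs : CoxeterSystem CoxeterMatrix.G₂ CoxeterMatrix.G₂.Group, cs = cs :=
    ⟨CoxeterMatrix.G₂.toCoxeterSystem, rfl⟩
  have hW : Finite CoxeterMatrix.G₂.Group := Cfsg.Agent.Nodes.RGDFold.finite_W (hp := Cfsg.Agent.Nodes.RGDTwD4.hp) cs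
    Nodes.RGDTwD4.isCartan Cfsg.Agent.Nodes.RGDTwD4.foldData
  have hKo : Odd (Fintype.card K) := by
    have h2 : ringChar K ≠ 2 := by rw [ringChar.eq K p]; exact hp2
    have := FiniteField.odd_card_of_char_ne_two h2
    rwa [Nat.odd_iff]
  have h3 : ∀ a : K, φ (φ (φ a)) = a := by
    intro t
    rw [hφ, hφ, hφ, ← pow_mul, ← pow_mul]
    have : q * (q * q) = q ^ 3 := by ring
    rw [this, ← hK]
    exact FiniteField.pow_card t
  have hbij : Function.Bijective φ := Finite.injective_iff_bijective.1 φ.injective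
  have hle := D4Fixed.twisted_le_fix hK hφ
  have hpar := Cfsg.Agent.Hexagon.TwD4Par.hexPar (q := q) hφ hle (σ := RingEquiv.ofBijective φ hbij)
    (fun x => rfl) h3
  have hP : (fun k => Nodes.RGDTwD4.X φ q (r (0 : Fin 2) 1 k)) = Cfsg.Agent.Hexagon.TwD4RGD.X K q :=
    funext (UGT.U2.FOne.TwDFour.X_eq hle)
  rw [← hP] at hpar
  have R := Nodes.RGDTwD4.rgd cs hK hφ p
  have hG1 : RGD.Sup (Nodes.RGDTwD4.X φ q) {x | IsRoot cs Nodes.RGDTwD4.isCartan x} = ⊤ :=
    Nodes.RGDTwD4.G1_eq_top cs hK hφ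
  have hG := GG_eq_top (T := Nodes.RGDTwD4.T K q) hG1
  have hcore := core_bot R (0 : Fin 2)
  obtain ⟨J, g, k, ψ, σ, NF, hc⟩ := Hex.main (hp.out.odd_of_ne_two hp2) R hG hcore UGT.U2.FOne.TwDFour.tyG
    (Cfsg.Agent.OddHalf.LongSL.two_ne_of_odd hKo) hpar hα
  obtain ⟨V, h1, h2, h4⟩ := Hex.move_V (p := p) NF
  refine ⟨V, h1, h2, ?_⟩
  rw [h4]
  have hF : Nat.card {a : K // (RingEquiv.ofBijective φ hbij) a = a} = q := by
    rw [← Cfsg.Agent.OddHalf.LongSL.Tw.card_fixed hq hK]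
    exact Nat.card_congr (Equiv.subtypeEquivRight fun x => by
      rw [← hφ]; rfl)
  rw [hF, Nat.card_eq_fintype_card, hK] at hc
  rcases hc with ⟨-, hc⟩ | ⟨-, hc⟩
  · rw [← Nat.pow_le_pow_iff_left two_ne_zero]
    refine le_trans ?_ hc
    have e1 : (q ^ 4) ^ 2 = q ^ 8 := by ring
    have e2 : (q ^ 3 * q) ^ 3 = q ^ 12 := by ring
    rw [e1, e2]
    exact Nat.pow_le_pow_right (by omega) (by norm_num)
  · refine le_trans (le_of_eq ?_) hc
    ring

end Cfsg.Agent.H293.TwFix.Rows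
end

-- part: H293/TwInner
section
/-!
# Involutory automorphisms of `G₂(q)` in the group of inner-diagonal-field automorphisms

* `inner_of_odd` : if `|Aut K|` is odd, an automorphism `conj x * φ`, `φ` fixing the fundamental root subgroups, whose square
  is trivial is inner.
-/

set_option autoImplicit false
set_option linter.unusedSectionVars false

namespace Cfsg.Agent.H293.TwFix.Inner

open Cfsg Cfsg.Lie Cfsg.Agent.ChevalleyStructure
open Cfsg.Agent.H70.OutCount Cfsg.Agent.H70.ChevField Cfsg.Agent.H69.OutGF Cfsg.Agent.H70.ChevFix Cfsg.Agent.Schreier.ChevLocal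
  Cfsg.Agent.S1042 Cfsg.Agent.H70.ChevTab

/-- in the kernel of `ρ`, a power is inner -/
theorem pow_mem_inn {K : Type*} [Field K] [Fintype K] {φ : MulAut ↥(chevG2.group K)} (hφ : Perm chevG2 K φ 1) :
    φ ^ Nat.card (K ≃+* K) ∈ Inn ↥(chevG2.group K) := by
  have hD := hG2
  let N : Subgroup ↥(A0 chevG2 K) := (Inn ↥(chevG2.group K)).subgroupOf (A0 chevG2 K)
  let R : Subgroup ↥(A0 chevG2 K) := (rho hD K).ker
  have hN : Nat.card N = (Nat.card K - 1) ^ 2 := by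
    rw [show Nat.card N = _ from card_inn_inf hD]
    exact card_diag_G2
  have hR : Nat.card R = (Nat.card K - 1) ^ 2 * Nat.card (K ≃+* K) := card_ker_rho hD
  have hNR : N ≤ R := by
    rintro ⟨ψ, π, hψ⟩ ⟨x, hx⟩
    have hx' : MulAut.conj x = ψ := hx
    subst hx'
    have h1 : x ∈ HH chevG2 K := by
      rw [← normalizer_inf hD, Subgroup.mem_inf, Cfsg.Agent.H70.AutFix.mem_normalizer_iff_smul,
        Cfsg.Agent.H70.AutFix.mem_normalizer_iff_smul]
      exact ⟨Cfsg.Agent.H70.ChevField.Perm.smul_UU hD hψ, Cfsg.Agent.H70.ChevField.Perm.smul_VN hD hψ⟩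
    rw [mem_ker_rho hD]
    exact ⟨fun i => conj_XX hD h1 (Cfsg.Agent.ChevalleyStructure.NPerm.simple_lt hD i.2), fun i => conj_XX hD h1 (Cfsg.Agent.H70.ChevFix.neg_simple_lt hD i.2)⟩
  have hInn : (Inn ↥(chevG2.group K)).Normal := by
    refine ⟨?_⟩
    rintro _ ⟨x, rfl⟩ β
    refine ⟨β x, ?_⟩
    ext y
    simp only [MulAut.conj_apply, _root_.Subgroup.coe_mul, _root_.InvMemClass.coe_inv, _root_.Units.val_mul, _root_.Matrix.coe_units_inv, _root_.MulAut.mul_apply, _root_.MulAut.inv_apply, _root_.map_mul, _root_.MulEquiv.apply_symm_apply, _root_.map_inv]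
  have hNn : (N.subgroupOf R).Normal := by
    have : N.Normal := hInn.subgroupOf _
    exact this.subgroupOf R
  have hidx : (N.subgroupOf R).index = Nat.card (K ≃+* K) := by
    have h1 := Subgroup.card_mul_index (N.subgroupOf R)
    rw [Nat.card_congr (Subgroup.subgroupOfEquivOfLe hNR).toEquiv, hN, hR] at h1
    have h2 : 1 < Nat.card K := Finite.one_lt_card
    exact Nat.eq_of_mul_eq_mul_left (pow_pos (by omega) 2) h1
  have hmem : (⟨φ, 1, hφ⟩ : ↥(A0 chevG2 K)) ∈ R := (mem_ker_rho hD).2 hφ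
  have h3 := Subgroup.pow_index_mem (N.subgroupOf R) (⟨⟨φ, 1, hφ⟩, hmem⟩ : ↥R)
  rw [hidx] at h3
  exact h3

/-- **The inner automorphisms.** -/
theorem inner_of_odd {K : Type*} [Field K] [Fintype K] (ho : Odd (Nat.card (K ≃+* K)))
    {φ α : MulAut ↥(chevG2.group K)} (hφ : Perm chevG2 K φ 1) (hα : α * α = 1) {x : ↥(chevG2.group K)}
    (he : α = MulAut.conj x * φ) : ∃ y, α = MulAut.conj y := by
  have hInn : (Inn ↥(chevG2.group K)).Normal := by
    refine ⟨?_⟩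
    rintro _ ⟨x, rfl⟩ β
    refine ⟨β x, ?_⟩
    ext y
    simp only [MulAut.conj_apply, _root_.Subgroup.coe_mul, _root_.InvMemClass.coe_inv, _root_.Units.val_mul, _root_.Matrix.coe_units_inv, _root_.MulAut.mul_apply, _root_.MulAut.inv_apply, _root_.map_mul, _root_.MulEquiv.apply_symm_apply, _root_.map_inv]
  have h1 := pow_mem_inn hφ
  obtain ⟨k, hk⟩ := ho
  have h2 : ∀ m : ℕ, α ^ m * (φ ^ m)⁻¹ ∈ Inn ↥(chevG2.group K) := by
    intro m
    induction m with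
    | zero => rw [pow_zero, pow_zero, inv_one, one_mul]; exact one_mem _
    | succ m ih =>
      have e : α ^ (m + 1) * (φ ^ (m + 1))⁻¹ = α * (α ^ m * (φ ^ m)⁻¹) * α⁻¹ * (α * φ⁻¹) := by
        rw [pow_succ' α, pow_succ φ]; group
      rw [e]
      refine mul_mem (hInn.conj_mem _ ih α) ⟨x, ?_⟩
      rw [he]; group
  have h3 : α ^ Nat.card (K ≃+* K) ∈ Inn ↥(chevG2.group K) := by
    have h4 := mul_mem (h2 (Nat.card (K ≃+* K))) h1
    rwa [inv_mul_cancel_right] at h4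
  have h4 : α ^ Nat.card (K ≃+* K) = α := by
    rw [hk, pow_succ, pow_mul, pow_two, hα, one_pow, one_mul]
  rw [h4] at h3
  obtain ⟨y, hy⟩ := h3
  exact ⟨y, hy.symm⟩

end Cfsg.Agent.H293.TwFix.Inner
end

-- part: H293/ExcOdd
section
/-!
# Involutory automorphisms of the exceptional groups of odd characteristic

`exc_cases` : the arithmetic restrictions for a quasisimple normal subgroup `A` of the fixed subgroup, `C(A)` with cyclic Sylow
2-subgroups.
-/

set_option autoImplicit false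
set_option linter.unusedSectionVars false

namespace Cfsg.Agent.H293

open Cfsg Subgroup Cfsg.Lie

universe u

namespace Cfg

variable {X : Type u} [Group X] [Finite X] {α : MulAut X} {A : Subgroup X}

/-- the transported automorphism -/
theorem congr_sq (h : Cfg α A) {Y : Type*} [Group Y] (e : X ≃* Y) : (MulAut.congr e α) * (MulAut.congr e α) = 1 := by
  rw [← map_mul, h.sq, map_one]

theorem congr_fix {Y : Type*} [Group Y] (e : X ≃* Y) {x : X} : x ∈ fixedSubgroup α ↔ e x ∈ fixedSubgroup (MulAut.congr e α) := by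
  show α x = x ↔ e (α (e.symm (e x))) = e x
  rw [MulEquiv.symm_apply_apply]
  exact e.injective.eq_iff.symm

theorem card_dvd_of_equiv (h : Cfg α A) {p : ℕ} [hp : Fact p.Prime] (hp2 : p ≠ 2) (hs : FixBN.HasSplit p X)
    {Y : Type*} [Group Y] (e : X ≃* Y) {V : Subgroup Y} (hV : V ≤ fixedSubgroup (MulAut.congr e α)) (hVp : IsPGroup p V) :
    Nat.card V ∣ Nat.card (MulAut (↥A ⧸ center ↥A)) := by
  have h1 : Nat.card (V.comap e.toMonoidHom) = Nat.card V :=
    Nat.card_congr (Equiv.subtypeEquiv e.toEquiv fun x => Iff.rfl)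
  rw [← h1]
  refine h.card_dvd hp2 hs (fun x hx => (congr_fix e).2 (hV hx)) ?_
  exact hVp.comap_of_injective e.toMonoidHom e.injective

theorem pow_dvd_of_equiv (h : Cfg α A) {p : ℕ} [hp : Fact p.Prime] (hp2 : p ≠ 2) (hs : FixBN.HasSplit p X)
    {Y : Type*} [Group Y] (e : X ≃* Y) {k : ℕ} (hk : p ^ k ∣ Nat.card ↥(fixedSubgroup (MulAut.congr e α))) :
    p ^ k ∣ Nat.card (MulAut (↥A ⧸ center ↥A)) := by
  have : Finite Y := Finite.of_equiv X e.toEquiv
  obtain ⟨V, hV⟩ := Sylow.exists_subgroup_card_pow_prime p hk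
  have h1 := h.card_dvd_of_equiv hp2 hs e (V := V.map (fixedSubgroup (MulAut.congr e α)).subtype) (map_subtype_le _)
    ((IsPGroup.of_card hV).map _)
  rwa [Subgroup.card_map_of_injective (Subgroup.subtype_injective _), hV] at h1

theorem dvd_of_le (h : Cfg α A) {p : ℕ} [hp : Fact p.Prime] (hp2 : p ≠ 2) (hs : FixBN.HasSplit p X)
    {Y : Type*} [Group Y] (e : X ≃* Y) {V : Subgroup Y} (hV : V ≤ fixedSubgroup (MulAut.congr e α)) (hVp : IsPGroup p V)
    {k : ℕ} (hk : p ^ k ≤ Nat.card V) : p ^ k ∣ Nat.card (MulAut (↥A ⧸ center ↥A)) := by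
  have : Finite Y := Finite.of_equiv X e.toEquiv
  obtain ⟨m, hm⟩ := IsPGroup.iff_card.1 hVp
  rw [hm] at hk
  have h4 : k ≤ m := (Nat.pow_le_pow_iff_right hp.out.one_lt).1 hk
  refine (pow_dvd_pow p h4).trans ?_
  rw [← hm]
  exact h.card_dvd_of_equiv hp2 hs e hV hVp

theorem simple_of_equiv [IsSimpleGroup X] {Y : Type*} [Group Y] (e : X ≃* Y) : IsSimpleGroup Y :=
  have : Nontrivial Y := e.symm.toEquiv.nontrivial
  IsSimpleGroup.isSimpleGroup_of_surjective e.toMonoidHom e.surjective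

/-- inner automorphisms under an isomorphism -/
theorem inner_of_equiv {Y : Type*} [Group Y] (e : X ≃* Y) {y : Y} (hy : MulAut.congr e α = MulAut.conj y) :
    α = MulAut.conj (e.symm y) := by
  ext x
  have h1 : e (α (e.symm (e x))) = y * e x * y⁻¹ := DFunLike.congr_fun hy (e x)
  rw [MulEquiv.symm_apply_apply] at h1
  apply e.injective
  rw [h1, MulAut.conj_apply, map_mul, map_mul, map_inv, MulEquiv.apply_symm_apply]

theorem card_pow {K : Type*} [Field K] [Fintype K] {p : ℕ} [hp : Fact p.Prime] [CharP K p] : ∃ f : ℕ, 1 ≤ f ∧ Fintype.card K = p ^ f := by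
  obtain ⟨n, -, h⟩ := FiniteField.card K p
  exact ⟨n, n.pos, h⟩

/-- **The exceptional groups of odd characteristic.** -/
theorem exc_cases [IsSimpleGroup X] (h : Cfg α A) {p : ℕ} (hp : p.Prime) (hp2 : p ≠ 2)
    (hX : IsExceptionalChevChar p X ∨ IsTwistedE6D4Char p X) :
    p ^ 7 ∣ Nat.card (MulAut (↥A ⧸ center ↥A)) ∨
    (∃ (K : Type) (_ : Field K) (_ : Fintype K) (_ : CharP K p), 3 ≤ Fintype.card K ∧ Nonempty (X ≃* ↥(chevG2.group K)) ∧
      (Fintype.card K ^ 3 ∣ Nat.card (MulAut (↥A ⧸ center ↥A)) ∨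
        (Fintype.card K ^ 2 ∣ Nat.card (MulAut (↥A ⧸ center ↥A)) ∧
          (Odd (Nat.card (K ≃+* K)) → ∃ y, α = MulAut.conj y)))) ∨
    (∃ (K : Type) (_ : Field K) (_ : Fintype K) (_ : CharP K p) (q : ℕ), IsPrimePow q ∧ Fintype.card K = q ^ 3 ∧
      Nonempty (X ≃* ↥(twistedD4 K q)) ∧ q ^ 4 ∣ Nat.card (MulAut (↥A ⧸ center ↥A))) := by
  have : Fact p.Prime := ⟨hp⟩
  have hs : FixBN.HasSplit p X := hasSplit_of_lie hp hp2 (by unfold IsLieTypeChar; (clear * - hX; tauto))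
  rcases hX with ⟨K, _, _, _, ⟨h3, ⟨e⟩⟩ | ⟨⟨e⟩⟩ | ⟨⟨e⟩⟩ | ⟨⟨e⟩⟩ | ⟨⟨e⟩⟩⟩ | ⟨K, _, _, _, q, hq, ⟨hK, ⟨e⟩⟩ | ⟨hK, ⟨e⟩⟩⟩
  · right; left
    have hsY := simple_of_equiv e
    obtain ⟨V, hV, hVp, hV2⟩ := TwFix.Rows.g2 hp2 (h.congr_sq e)
    obtain ⟨f, hf, hKf⟩ := card_pow (K := K) (p := p)
    refine ⟨K, inferInstance, inferInstance, inferInstance, h3, ⟨e⟩, ?_⟩
    rcases hV2 with hV2 | ⟨hV2, x, φ, hφ, he⟩
    · left
      rw [hKf, ← pow_mul] at hV2 ⊢
      exact h.dvd_of_le hp2 hs e hV hVp hV2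
    · right
      refine ⟨?_, fun ho => ?_⟩
      · rw [hKf, ← pow_mul] at hV2 ⊢
        exact h.dvd_of_le hp2 hs e hV hVp hV2
      · obtain ⟨y, hy⟩ := TwFix.Inner.inner_of_odd ho hφ (h.congr_sq e) he
        exact ⟨_, inner_of_equiv e hy⟩
  · left
    have hsY := simple_of_equiv e
    exact h.pow_dvd_of_equiv hp2 hs e (TwFix.chev_F4 hp2 (h.congr_sq e))
  · left
    have hsY := simple_of_equiv e
    exact h.pow_dvd_of_equiv hp2 hs e (TwFix.chev_E6 hp2 (h.congr_sq e))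
  · left
    have hsY := simple_of_equiv e
    exact h.pow_dvd_of_equiv hp2 hs e (TwFix.chev_E7 hp2 (h.congr_sq e))
  · left
    have hsY := simple_of_equiv e
    exact h.pow_dvd_of_equiv hp2 hs e (TwFix.chev_E8 hp2 (h.congr_sq e))
  · left
    exact h.pow_dvd_of_equiv hp2 hs e (TwFix.TwE.twE6 p hp2 hq hK (h.congr_sq e))
  · right; right
    have hsY := simple_of_equiv e
    obtain ⟨φ, hφ⟩ := ChevalleyStructure.D4Fixed.exists_frob hq hK
    obtain ⟨V, hV, hVp, hV2⟩ := TwFix.Rows.twD4 hp2 hq.two_le hK hφ (h.congr_sq e)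
    refine ⟨K, inferInstance, inferInstance, inferInstance, q, hq, hK, ⟨e⟩, ?_⟩
    obtain ⟨f, hf, hKf⟩ := card_pow (K := K) (p := p)
    have hqf : ∃ g : ℕ, q = p ^ g := by
      have h1 : q ∣ p ^ f := by rw [← hKf, hK]; exact dvd_pow_self q (by norm_num)
      obtain ⟨j, -, hj⟩ := (Nat.dvd_prime_pow hp).1 h1
      exact ⟨j, hj⟩
    obtain ⟨g, rfl⟩ := hqf
    rw [← pow_mul] at hV2 ⊢
    exact h.dvd_of_le hp2 hs e hV hVp hV2

end Cfg

end Cfsg.Agent.H293
end
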